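import Mathlib

/-!
# Project RC (helper48, S1152 / S1157): the abstract rank-one setting, base

`Ok0 θ T H w`: as `Cfsg.Agent.Lib.Helper81.RO.Ok`, without the two hypotheses "θ is not the
identity" and "field automorphisms" (so that it also holds for the Ree group over the field with
three elements).  The generic lemmas are copied from `Cfsg.Agent.Lib.Helper81.ROBase`.
Also: the elementary matrices `up b`, `lo b` of `SL₂`.
-/

set_option autoImplicit false
set_option linter.unusedSectionVars false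

namespace Cfsg.Agent.Lib.Helper48.RC

open scoped Pointwise

variable {F : Type*} [Field F] [Finite F] [CharP F 3] {G : Type*} [Group G] [Finite G]

/-- the hypotheses -/
structure Ok0 (θ : F →+* F) (T : F → F → F → G) (H : Fˣ → G) (w : G) : Prop where
  θθ : ∀ x, θ (θ x) = x ^ 3
  T_mul : ∀ a b c a' b' c', T a b c * T a' b' c' =
    T (a + a') (b + b' - a * θ a') (c + c' - a' * b + a * θ a' * a' - a ^ 2 * θ a')
  T_inj : ∀ a b c a' b' c', T a b c = T a' b' c' → a = a' ∧ b = b' ∧ c = c'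
  H_mul : ∀ s s', H (s * s') = H s * H s'
  H_inj : ∀ s, H s = 1 → s = 1
  HT : ∀ (s : Fˣ) (a b c : F),
    H s * T a b c = T (s * a) (s * θ s * b) (s ^ 2 * θ s * c) * H s
  w_sq : w * w = 1
  wH : ∀ s, w * H s * w = H s⁻¹
  cases : ∀ g : G, (∃ a b c s, g = T a b c * H s) ∨
    ∃ a b c a' b' c' s, g = T a b c * w * (T a' b' c' * H s)
  uniq : ∀ a b c a' b' c' s, T a b c * w * (T a' b' c' * H s) = w → a = 0 ∧ b = 0 ∧ c = 0
  syl : ∃ P : Sylow 3 G, ∀ g, g ∈ P ↔ ∃ a b c, g = T a b c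

variable {θ : F →+* F} {T : F → F → F → G} {H : Fˣ → G} {w : G}

theorem T_congr {T : F → F → F → G} {a b c a' b' c' : F} (ha : a = a') (hb : b = b')
    (hc : c = c') : T a b c = T a' b' c' := by rw [ha, hb, hc]

theorem three_eq_zero : (3 : F) = 0 := by
  have := CharP.cast_eq_zero F 3
  exact_mod_cast this

namespace Ok0

variable (h : Ok0 θ T H w)
include h

theorem T_zero : T 0 0 0 = 1 := by
  have e := h.T_mul 0 0 0 0 0 0
  have e2 : T ((0 : F) + 0) (0 + 0 - 0 * θ 0) (0 + 0 - 0 * 0 + 0 * θ 0 * 0 - 0 ^ 2 * θ 0)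
      = T 0 0 0 := T_congr (by simp) (by simp) (by simp)
  rw [e2] at e
  exact mul_eq_left.1 e

/-- right multiplication by an element with first coordinate zero -/
theorem T_mul0 (a b c b' c' : F) : T a b c * T 0 b' c' = T a (b + b') (c + c') := by
  rw [h.T_mul]
  exact T_congr (by simp) (by simp) (by simp)

/-- left multiplication by an element with first coordinate zero -/
theorem T0_mul (b c a' b' c' : F) : T 0 b c * T a' b' c' = T a' (b + b') (c + c' - a' * b) := by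
  rw [h.T_mul]
  exact T_congr (by simp) (by simp) (by simp)

theorem T00_mul (c c' : F) : T 0 0 c * T 0 0 c' = T 0 0 (c + c') := by
  rw [h.T_mul0]
  exact T_congr rfl (by simp) rfl

theorem T_split (a b c : F) : T a b c = T a 0 0 * T 0 b 0 * T 0 0 c := by
  rw [h.T_mul0, h.T_mul0]
  exact T_congr rfl (by simp) (by simp)

theorem T_inv (a b c : F) :
    (T a b c)⁻¹ = T (-a) (-b - a * θ a) (-c - a * b + a ^ 2 * θ a) := by
  apply inv_eq_of_mul_eq_one_right
  rw [h.T_mul, ← h.T_zero]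
  have h3 : (3 : F) = 0 := three_eq_zero
  refine T_congr (by ring) ?_ ?_
  · rw [map_neg]; ring
  · rw [map_neg]
    linear_combination (a ^ 2 * θ a) * h3

theorem H_one : H 1 = 1 := by
  have := h.H_mul 1 1
  rw [mul_one] at this
  exact (mul_eq_left.1 this.symm)

theorem H_inv (s : Fˣ) : (H s)⁻¹ = H s⁻¹ := by
  apply inv_eq_of_mul_eq_one_right
  rw [← h.H_mul, mul_inv_cancel, h.H_one]

theorem H_injective : Function.Injective H := by
  intro s s' e
  have : H (s * s'⁻¹) = 1 := by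
    rw [h.H_mul, ← h.H_inv, e, mul_inv_cancel]
  have := h.H_inj _ this
  exact mul_inv_eq_one.1 this

theorem θ_inj : Function.Injective θ := θ.injective

theorem θ_surj : Function.Surjective θ := Finite.injective_iff_surjective.1 θ.injective

/-- the unipotent subgroup -/
def Qs : Subgroup G where
  carrier := {g | ∃ a b c, g = T a b c}
  mul_mem' := by
    rintro x y ⟨a, b, c, rfl⟩ ⟨a', b', c', rfl⟩
    exact ⟨_, _, _, h.T_mul a b c a' b' c'⟩
  one_mem' := ⟨0, 0, 0, h.T_zero.symm⟩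
  inv_mem' := by
    rintro x ⟨a, b, c, rfl⟩
    exact ⟨_, _, _, h.T_inv a b c⟩

theorem mem_Qs (g : G) : g ∈ h.Qs ↔ ∃ a b c, g = T a b c := Iff.rfl

theorem T_mem (a b c : F) : T a b c ∈ h.Qs := ⟨a, b, c, rfl⟩

theorem H_conj_T (s : Fˣ) (a b c : F) :
    H s * T a b c * (H s)⁻¹ = T (s * a) (s * θ s * b) (s ^ 2 * θ s * c) := by
  rw [h.HT, mul_assoc, mul_inv_cancel, mul_one]

/-- the Borel subgroup -/
def Bs : Subgroup G where
  carrier := {g | ∃ a b c s, g = T a b c * H s}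
  mul_mem' := by
    rintro x y ⟨a, b, c, s, rfl⟩ ⟨a', b', c', s', rfl⟩
    obtain ⟨a2, b2, c2, e⟩ := h.Qs.mul_mem (h.T_mem a b c)
      (h.T_mem (s * a') (s * θ s * b') (s ^ 2 * θ s * c'))
    refine ⟨a2, b2, c2, s * s', ?_⟩
    rw [← e, h.H_mul]
    have e1 := h.HT s a' b' c'
    calc T a b c * H s * (T a' b' c' * H s') = T a b c * (H s * T a' b' c') * H s' := by group
      _ = T a b c * T (s * a') (s * θ s * b') (s ^ 2 * θ s * c') * (H s * H s') := by
        rw [e1]; group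
  one_mem' := ⟨0, 0, 0, 1, by rw [h.T_zero, h.H_one, mul_one]⟩
  inv_mem' := by
    rintro x ⟨a, b, c, s, rfl⟩
    obtain ⟨a1, b1, c1, e⟩ := h.Qs.inv_mem (h.T_mem a b c)
    refine ⟨((s⁻¹ : Fˣ) : F) * a1, ((s⁻¹ : Fˣ) : F) * θ ((s⁻¹ : Fˣ) : F) * b1,
      ((s⁻¹ : Fˣ) : F) ^ 2 * θ ((s⁻¹ : Fˣ) : F) * c1, s⁻¹, ?_⟩
    rw [mul_inv_rev, e, h.H_inv, h.HT]

theorem mem_Bs (g : G) : g ∈ h.Bs ↔ ∃ a b c s, g = T a b c * H s := Iff.rfl

theorem Qs_le_Bs : h.Qs ≤ h.Bs := by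
  rintro x ⟨a, b, c, rfl⟩
  exact ⟨a, b, c, 1, by rw [h.H_one, mul_one]⟩

theorem H_mem (s : Fˣ) : H s ∈ h.Bs := ⟨0, 0, 0, s, by rw [h.T_zero, one_mul]⟩

theorem TH_mem (a b c : F) (s : Fˣ) : T a b c * H s ∈ h.Bs := ⟨a, b, c, s, rfl⟩

theorem w_inv : w⁻¹ = w := inv_eq_of_mul_eq_one_right h.w_sq

/-- the Borel subgroup normalises the unipotent subgroup -/
theorem conj_mem_Qs {x u : G} (hx : x ∈ h.Bs) (hu : u ∈ h.Qs) : x * u * x⁻¹ ∈ h.Qs := by
  obtain ⟨a, b, c, s, rfl⟩ := hx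
  obtain ⟨a', b', c', rfl⟩ := hu
  have e : T a b c * H s * T a' b' c' * (T a b c * H s)⁻¹
      = T a b c * (H s * T a' b' c' * (H s)⁻¹) * (T a b c)⁻¹ := by group
  rw [e, h.H_conj_T]
  exact h.Qs.mul_mem (h.Qs.mul_mem (h.T_mem a b c) (h.T_mem _ _ _))
    (h.Qs.inv_mem (h.T_mem a b c))

theorem conj_mem_Qs_iff {x u : G} (hx : x ∈ h.Bs) : x * u * x⁻¹ ∈ h.Qs ↔ u ∈ h.Qs := by
  constructor
  · intro hu
    have := h.conj_mem_Qs (h.Bs.inv_mem hx) hu
    have e : x⁻¹ * (x * u * x⁻¹) * x⁻¹⁻¹ = u := by group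
    rwa [e] at this
  · exact h.conj_mem_Qs hx

/-- `w u w ∈ B` forces `u = 1` -/
theorem eq_one_of_wuw {u : G} (hu : u ∈ h.Qs) (hb : w * u * w ∈ h.Bs) : u = 1 := by
  obtain ⟨a, b, c, rfl⟩ := hu
  obtain ⟨a', b', c', s, hcd⟩ := h.Bs.inv_mem hb
  have e : T a b c * w * (T a' b' c' * H s) = w := by
    rw [← hcd]
    have : T a b c * w * (w * T a b c * w)⁻¹ = w⁻¹ := by group
    rw [this, h.w_inv]
  obtain ⟨rfl, rfl, rfl⟩ := h.uniq a b c a' b' c' s e
  exact h.T_zero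

theorem T100_ne_one : T 1 0 0 ≠ 1 := by
  intro e
  rw [← h.T_zero] at e
  exact one_ne_zero (h.T_inj _ _ _ _ _ _ e).1

/-- an element conjugating a non-identity element of `Q` into `Q` lies in `B` -/
theorem mem_Bs_of_conj {x u : G} (hu : u ∈ h.Qs) (hu1 : u ≠ 1) (hx : x * u * x⁻¹ ∈ h.Qs) :
    x ∈ h.Bs := by
  rcases h.cases x with ⟨a, b, c, s, rfl⟩ | ⟨a, b, c, a', b', c', s, rfl⟩
  · exact ⟨a, b, c, s, rfl⟩
  · exfalso
    have hb : T a' b' c' * H s ∈ h.Bs := ⟨a', b', c', s, rfl⟩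
    have hu2 : (T a' b' c' * H s) * u * (T a' b' c' * H s)⁻¹ ∈ h.Qs := h.conj_mem_Qs hb hu
    have e : w * ((T a' b' c' * H s) * u * (T a' b' c' * H s)⁻¹) * w
        = (T a b c)⁻¹ * (T a b c * w * (T a' b' c' * H s) * u *
            (T a b c * w * (T a' b' c' * H s))⁻¹) * T a b c := by
      have : w * ((T a' b' c' * H s) * u * (T a' b' c' * H s)⁻¹) * w
          = w * ((T a' b' c' * H s) * u * (T a' b' c' * H s)⁻¹) * w⁻¹ := by rw [h.w_inv]
      rw [this]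
      group
    have h3 : w * ((T a' b' c' * H s) * u * (T a' b' c' * H s)⁻¹) * w ∈ h.Bs := by
      rw [e]
      exact h.Qs_le_Bs (h.Qs.mul_mem (h.Qs.mul_mem (h.Qs.inv_mem (h.T_mem a b c)) hx)
        (h.T_mem a b c))
    have h4 := h.eq_one_of_wuw hu2 h3
    apply hu1
    have : u = (T a' b' c' * H s)⁻¹ * ((T a' b' c' * H s) * u * (T a' b' c' * H s)⁻¹) *
        (T a' b' c' * H s) := by group
    rw [this, h4]
    group

/-- `B ∩ wBw` is the torus -/
theorem exists_H_of_mem {x : G} (hx : x ∈ h.Bs) (hx' : w * x * w ∈ h.Bs) : ∃ s, x = H s := by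
  obtain ⟨a, b, c, s, rfl⟩ := hx
  have e : w * T a b c * w = w * (T a b c * H s) * w * (H s⁻¹)⁻¹ := by
    rw [← h.wH s]
    have : w * (T a b c * H s) * w * (w * H s * w)⁻¹ = w * T a b c * w⁻¹ := by group
    rw [this, h.w_inv]
  have h1 : w * T a b c * w ∈ h.Bs := by
    rw [e]
    exact h.Bs.mul_mem hx' (h.Bs.inv_mem (h.H_mem _))
  have h2 := h.eq_one_of_wuw (h.T_mem a b c) h1
  exact ⟨s, by rw [h2, one_mul]⟩

theorem wH' (s : Fˣ) : w * H s * w⁻¹ = H s⁻¹ := by rw [h.w_inv, h.wH]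

theorem eq_one_of_wuw' {u : G} (hu : u ∈ h.Qs) (hb : w * u * w⁻¹ ∈ h.Bs) : u = 1 := by
  rw [h.w_inv] at hb
  exact h.eq_one_of_wuw hu hb

theorem exists_H_of_mem' {x : G} (hx : x ∈ h.Bs) (hx' : w * x * w⁻¹ ∈ h.Bs) : ∃ s, x = H s := by
  rw [h.w_inv] at hx'
  exact h.exists_H_of_mem hx hx'

end Ok0

/-- the upper unitriangular matrix of `SL₂` -/
def up (b : F) : Matrix.SpecialLinearGroup (Fin 2) F :=
  ⟨!![1, b; 0, 1], by simp [Matrix.det_fin_two_of]⟩

/-- the lower unitriangular matrix of `SL₂` -/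
def lo (b : F) : Matrix.SpecialLinearGroup (Fin 2) F :=
  ⟨!![1, 0; b, 1], by simp [Matrix.det_fin_two_of]⟩

end Cfsg.Agent.Lib.Helper48.RC
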