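import Cfsg.Agent.Lib.Helper82.StrongOrth
import Cfsg.Agent.S4691

set_option autoImplicit false

/-! S0960 piece DO-CL4 (job 277, for helper22): `prin_orth`. -/

namespace Cfsg.Agent.Lib.Helper48.DO

open Cfsg
open scoped ComplexConjugate

variable {G : Type*} [Group G] [Fintype G] (p : ℕ) [Fact p.Prime] (M : Ideal AlgInt)

theorem prin_orth (hM : IsPModular p M) (P : Sylow p G) (hP : Nat.card P = p)
    (z : G) (hz : z ∈ (P : Subgroup G)) (hz1 : z ≠ 1) :
    (∀ t t' : ℕ, ¬ p ∣ t → ¬ p ∣ t' → (¬ ∃ g : G, g * z ^ t * g⁻¹ = z ^ t') →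
      ∑ᶠ θ ∈ principalBlock M G, (θ : G → ℂ) (z ^ t) * conj ((θ : G → ℂ) (z ^ t')) = 0) ∧
    (∀ t : ℕ, ¬ p ∣ t → ∀ g : G, ¬ p ∣ orderOf g →
      ∑ᶠ θ ∈ principalBlock M G, (θ : G → ℂ) (z ^ t) * conj ((θ : G → ℂ) g) = 0) ∧
    (∀ θ ∈ principalBlock M G, (θ : G → ℂ) z ≠ 0) := by
  have hp : p.Prime := Fact.out
  have hB := Cfsg.Agent.S4691.principal_isPBlock (G := G) M
  have hzp : z ^ p = 1 := by
    have h1 : (⟨z, hz⟩ : (P : Subgroup G)) ^ p = 1 := by
      have h2 := pow_card_eq_one' (G := (P : Subgroup G)) (x := ⟨z, hz⟩)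
      rwa [hP] at h2
    exact congrArg Subtype.val h1
  have hord : orderOf z = p := orderOf_eq_prime hzp hz1
  refine ⟨?_, ?_, ?_⟩
  · intro t t' ht ht' hnc
    apply Cfsg.Agent.Lib.Helper82.strong_block_orth hM _ hB
    intro c g hc hcon
    apply hnc
    have hcop : Nat.Coprime c p := ((Nat.Prime.coprime_iff_not_dvd hp).mpr hc).symm
    obtain ⟨c', -, hc'⟩ := Nat.exists_mul_mod_eq_one_of_coprime hcop hp.one_lt
    have hpow : ∀ w : G, w ^ p = 1 → w ^ (c * c') = w := by
      intro w hw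
      rw [pow_eq_pow_mod _ hw, hc', pow_one]
    have hcp : ∀ (w : G) (n : ℕ), (g⁻¹ * w * g) ^ n = g⁻¹ * w ^ n * g := by
      intro w n
      have h0 := conj_pow (a := g⁻¹) (b := w) (i := n)
      rwa [inv_inv] at h0
    refine ⟨g⁻¹, ?_⟩
    rw [inv_inv]
    have h1 : (z ^ t') ^ p = 1 := by rw [← pow_mul, mul_comm, pow_mul, hzp, one_pow]
    have h2 : (z ^ t) ^ p = 1 := by rw [← pow_mul, mul_comm, pow_mul, hzp, one_pow]
    have h3 : ((z ^ t') ^ c) ^ c' = (g⁻¹ * (z ^ t) ^ c * g) ^ c' := by rw [hcon]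
    rw [← pow_mul, hpow _ h1, hcp, ← pow_mul, hpow _ h2] at h3
    exact h3.symm
  · intro t ht g hg
    apply Cfsg.Agent.Lib.Helper82.strong_block_orth hM _ hB
    intro c g' hc hcon
    have h1 : orderOf (g'⁻¹ * (z ^ t) ^ c * g') = p := by
      have e : g'⁻¹ * (z ^ t) ^ c * g' = MulAut.conj g'⁻¹ ((z ^ t) ^ c) := by
        simp
      rw [e, MulEquiv.orderOf_eq, ← pow_mul]
      have hcop : (orderOf z).Coprime (t * c) := by
        rw [hord]
        refine (Nat.Prime.coprime_iff_not_dvd hp).mpr fun hd => ?_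
        rcases (Nat.Prime.dvd_mul hp).mp hd with hd | hd
        · exact ht hd
        · exact hc hd
      rw [Nat.Coprime.orderOf_pow hcop, hord]
    rw [← hcon] at h1
    apply hg
    have h2 := orderOf_pow_dvd (x := g) c
    rwa [h1] at h2
  · intro θ hθ h0
    have h1 := hθ z
    have h2 : centralChar (fun _ : G => (1 : ℂ)) z - centralChar (θ : G → ℂ) z =
        ((Subgroup.centralizer ({z} : Set G)).index : ℂ) := by
      simp [centralChar, h0]
    rw [h2, Cfsg.Agent.Lib.Helper21.locIdeal_natCast_iff hM] at h1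
    have h3 : p ∣ Nat.card (Subgroup.centralizer ({z} : Set G)) := by
      have hzc : z ∈ Subgroup.centralizer ({z} : Set G) := by
        rw [Subgroup.mem_centralizer_iff]
        intro y hy
        rw [Set.mem_singleton_iff.mp hy]
      have h4 := orderOf_dvd_natCard (⟨z, hzc⟩ : Subgroup.centralizer ({z} : Set G))
      rwa [Subgroup.orderOf_mk, hord] at h4
    have h4 : p ^ 2 ∣ Nat.card G := by
      rw [← Subgroup.card_mul_index (Subgroup.centralizer ({z} : Set G)), pow_two]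
      exact mul_dvd_mul h3 h1
    have h5 := P.card_eq_multiplicity
    rw [hP] at h5
    have h6 : (Nat.card G).factorization p = 1 := by
      have h7 : p ^ 1 = p ^ (Nat.card G).factorization p := by rw [pow_one]; exact h5
      exact (Nat.pow_right_injective hp.two_le h7).symm
    have h7 : 2 ≤ (Nat.card G).factorization p :=
      (hp.pow_dvd_iff_le_factorization Nat.card_pos.ne').mp h4
    omega

end Cfsg.Agent.Lib.Helper48.DO
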