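import Mathlib

set_option autoImplicit false

/-! S3282 piece E0B (job 451, for helper46): the abstract counting core (pure Mathlib).

`E` is a set of elements closed under conjugation and inversion, made of two classes
`cl(y)`, `cl(y⁻¹)`, with centralizers of order `2j+1` whose non-identity elements lie in `E`,
and a class multiplication constant.  Then `C(y)` is abelian, is the centralizer of each of its
non-identity elements, and its normalizer has order `(2j+1) j`. -/

namespace Cfsg.Agent.Lib.Helper48.BSWE0B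

open Finset

variable {G : Type*} [Group G]

theorem mem_cent {x y : G} : x ∈ Subgroup.centralizer ({y} : Set G) ↔ y * x = x * y := by
  simp [Subgroup.mem_centralizer_iff]

/-- hypotheses of the abstract counting lemma (`k = j + 1`, `q = 2j + 1`) -/
structure Core (E : G → Prop) (j : ℕ) : Prop where
  conj : ∀ y g, E y → E (g * y * g⁻¹)
  inv : ∀ y, E y → E y⁻¹
  one : ¬ E 1
  cardE : Nat.card {z : G // E z} = 4 * (j + 1) * j
  cardC : ∀ y, E y → Nat.card (Subgroup.centralizer ({y} : Set G)) = 2 * j + 1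
  nr : ∀ y, E y → ¬ IsConj y y⁻¹
  cent : ∀ y, E y → ∀ x ∈ Subgroup.centralizer ({y} : Set G), x ≠ 1 → E x
  cls : ∀ y y', E y → E y' → IsConj y y' ∨ IsConj y⁻¹ y'
  count : ∀ y y₃, E y → E y₃ →
    2 * Nat.card {p : G × G // IsConj y p.1 ∧ IsConj y⁻¹ p.2 ∧ p.1 * p.2 = y₃} + 1 = j
  cardG : Nat.card G = 2 * (j + 1) * (2 * j + 1) * j

section facts

variable {E : G → Prop} {j : ℕ}

theorem Core.of_conj (hC : Core E j) {y : G} (hy : E y) {x : G} (hx : IsConj y x) : E x := by
  obtain ⟨c, hc⟩ := isConj_iff.mp hx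
  rw [← hc]
  exact hC.conj y c hy

theorem Core.of_conj' (hC : Core E j) {y : G} (hy : E y) {x : G} (hx : IsConj y⁻¹ x) : E x :=
  hC.of_conj (hC.inv y hy) hx

theorem conj_inv_of_conj {y x : G} (hx : IsConj y x) : IsConj y⁻¹ x⁻¹ := by
  obtain ⟨c, hc⟩ := isConj_iff.mp hx
  exact isConj_iff.mpr ⟨c, by rw [← hc]; group⟩

theorem conj_of_conj_inv {y x : G} (hx : IsConj y⁻¹ x) : IsConj y x⁻¹ := by
  obtain ⟨c, hc⟩ := isConj_iff.mp hx
  exact isConj_iff.mpr ⟨c, by rw [← hc]; group⟩

theorem Core.ne_one (hC : Core E j) {x : G} (hx : E x) : x ≠ 1 := fun h1 => hC.one (h1 ▸ hx)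

theorem Core.disj (hC : Core E j) {y : G} (hy : E y) {x : G} (h1 : IsConj y x)
    (h2 : IsConj y⁻¹ x) : False :=
  hC.nr y hy (h1.trans h2.symm)

end facts

/-- the key commutation statement `(*)` -/
theorem Core.star [Fintype G] {E : G → Prop} {j : ℕ} (hC : Core E j) (y : G) (hy : E y) :
    ∀ g h : G, IsConj y g → IsConj y⁻¹ h → E (g * h) → Commute g h := by
  classical
  set Cs : Finset G := univ.filter (fun x => IsConj y x) with hCs
  set Cs' : Finset G := univ.filter (fun x => IsConj y⁻¹ x) with hCs'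
  set Es : Finset G := univ.filter (fun x => E x) with hEs
  have hEs_card : Es.card = 4 * (j + 1) * j := by
    rw [← hC.cardE, Nat.card_eq_fintype_card, Fintype.card_subtype]
  have hunion : Es = Cs ∪ Cs' := by
    ext x
    simp only [hEs, hCs, hCs', mem_filter, mem_univ, true_and, mem_union]
    constructor
    · intro hx
      exact hC.cls y x hy hx
    · rintro (hx | hx)
      · exact hC.of_conj hy hx
      · exact hC.of_conj' hy hx
  have hdisjF : Disjoint Cs Cs' := by
    rw [Finset.disjoint_left]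
    intro x hx hx'
    simp only [hCs, hCs', mem_filter, mem_univ, true_and] at hx hx'
    exact hC.disj hy hx hx'
  have hcardeq : Cs.card = Cs'.card := by
    apply Finset.card_bij (fun x _ => x⁻¹)
    · intro x hx
      simp only [hCs, hCs', mem_filter, mem_univ, true_and] at hx ⊢
      exact conj_inv_of_conj hx
    · intro a _ b _ hab
      exact inv_injective hab
    · intro b hb
      simp only [hCs, hCs', mem_filter, mem_univ, true_and] at hb ⊢
      exact ⟨b⁻¹, conj_of_conj_inv hb, inv_inv b⟩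
  have hCs_card : Es.card = 2 * Cs.card := by
    have h0 := Finset.card_union_of_disjoint hdisjF
    rw [← hunion, ← hcardeq] at h0
    omega
  -- step B
  have hT : ∀ g, IsConj y g → (Cs'.filter (fun h => Commute g h)).card = j := by
    intro g hg
    have hEg := hC.of_conj hy hg
    set Z : Finset G := univ.filter (fun x => Commute g x ∧ x ≠ 1) with hZ
    have hZcard : Z.card = 2 * j := by
      have h1 : (univ.filter (fun x => Commute g x)).card = 2 * j + 1 := by
        rw [← hC.cardC g hEg, Nat.card_eq_fintype_card, Fintype.card_subtype]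
        congr 1
        ext x
        simp only [mem_filter, mem_univ, true_and, mem_cent]
        exact ⟨fun h => h.eq, fun h => h⟩
      have h2 : Z = (univ.filter (fun x => Commute g x)).erase 1 := by
        ext x
        simp only [hZ, mem_filter, mem_univ, true_and, mem_erase]
        exact ⟨fun h => ⟨h.2, h.1⟩, fun h => ⟨h.2, h.1⟩⟩
      rw [h2, Finset.card_erase_of_mem (by simp), h1]
      rfl
    have hZE : ∀ x ∈ Z, E x := by
      intro x hx
      simp only [hZ, mem_filter, mem_univ, true_and] at hx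
      exact hC.cent g hEg x (mem_cent.mpr hx.1.eq) hx.2
    have hZsplit : Z = Z.filter (fun x => IsConj y x) ∪ Z.filter (fun x => IsConj y⁻¹ x) := by
      ext x
      simp only [mem_union, mem_filter]
      constructor
      · intro hx
        rcases hC.cls y x hy (hZE x hx) with h | h
        · exact Or.inl ⟨hx, h⟩
        · exact Or.inr ⟨hx, h⟩
      · rintro (h | h) <;> exact h.1
    have hZdisj : Disjoint (Z.filter (fun x => IsConj y x))
        (Z.filter (fun x => IsConj y⁻¹ x)) := by
      rw [Finset.disjoint_left]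
      intro x hx hx'
      exact hC.disj hy (mem_filter.mp hx).2 (mem_filter.mp hx').2
    have hZeq : (Z.filter (fun x => IsConj y x)).card =
        (Z.filter (fun x => IsConj y⁻¹ x)).card := by
      apply Finset.card_bij (fun x _ => x⁻¹)
      · intro x hx
        simp only [hZ, mem_filter, mem_univ, true_and] at hx ⊢
        exact ⟨⟨hx.1.1.inv_right, inv_ne_one.mpr hx.1.2⟩, conj_inv_of_conj hx.2⟩
      · intro a _ b _ hab
        exact inv_injective hab
      · intro b hb
        simp only [hZ, mem_filter, mem_univ, true_and] at hb ⊢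
        exact ⟨b⁻¹, ⟨⟨hb.1.1.inv_right, inv_ne_one.mpr hb.1.2⟩, conj_of_conj_inv hb.2⟩,
          inv_inv b⟩
    have hfil : Cs'.filter (fun h => Commute g h) = Z.filter (fun x => IsConj y⁻¹ x) := by
      ext x
      simp only [hCs', hZ, mem_filter, mem_univ, true_and]
      constructor
      · rintro ⟨h1, h2⟩
        exact ⟨⟨h2, hC.ne_one (hC.of_conj' hy h1)⟩, h1⟩
      · rintro ⟨⟨h1, _⟩, h2⟩
        exact ⟨h2, h1⟩
    rw [hfil]
    have h0 := Finset.card_union_of_disjoint hZdisj
    rw [← hZsplit, hZcard, hZeq] at h0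
    omega
  -- step C
  set P : Finset (G × G) := (Cs ×ˢ Cs').filter (fun p => E (p.1 * p.2)) with hP
  set Pc : Finset (G × G) :=
    (Cs ×ˢ Cs').filter (fun p => Commute p.1 p.2 ∧ p.1 * p.2 ≠ 1) with hPc
  have hsub : Pc ⊆ P := by
    intro p hp
    simp only [hPc, hP, mem_filter, mem_product] at hp ⊢
    refine ⟨hp.1, ?_⟩
    have hg : IsConj y p.1 := by
      have h0 := hp.1.1
      simpa [hCs] using h0
    apply hC.cent p.1 (hC.of_conj hy hg) (p.1 * p.2) _ hp.2.2
    rw [mem_cent, mul_assoc, hp.2.1.eq]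
  have hPcard : 2 * P.card + Es.card = j * Es.card := by
    have h1 : P.card = ∑ y₃ ∈ Es, (P.filter (fun p => p.1 * p.2 = y₃)).card := by
      apply Finset.card_eq_sum_card_fiberwise
      intro p hp
      rw [Finset.mem_coe] at hp ⊢
      simp only [hP, mem_filter] at hp
      simp only [hEs, mem_filter, mem_univ, true_and]
      exact hp.2
    have h2 : ∀ y₃ ∈ Es, 2 * (P.filter (fun p => p.1 * p.2 = y₃)).card + 1 = j := by
      intro y₃ hy₃
      have hy₃E : E y₃ := by simpa [hEs] using hy₃
      rw [← hC.count y y₃ hy hy₃E, Nat.card_eq_fintype_card, Fintype.card_subtype]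
      congr 3
      ext p
      simp only [hP, hCs, hCs', mem_filter, mem_product, mem_univ, true_and]
      constructor
      · rintro ⟨⟨⟨h1, h2⟩, _⟩, h3⟩
        exact ⟨h1, h2, h3⟩
      · rintro ⟨h1, h2, h3⟩
        exact ⟨⟨⟨h1, h2⟩, h3 ▸ hy₃E⟩, h3⟩
    have h3 : ∑ y₃ ∈ Es, (2 * (P.filter (fun p => p.1 * p.2 = y₃)).card + 1) = ∑ _y₃ ∈ Es, j :=
      Finset.sum_congr rfl h2
    rw [Finset.sum_add_distrib, Finset.sum_const, Finset.sum_const, smul_eq_mul, smul_eq_mul,
      mul_one, ← Finset.mul_sum, ← h1] at h3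
    rw [h3, mul_comm]
  have hPccard : Pc.card + Cs.card = j * Cs.card := by
    have h1 : Pc.card = ∑ g ∈ Cs, (Cs'.filter (fun h => Commute g h ∧ g * h ≠ 1)).card := by
      rw [hPc, Finset.card_filter, Finset.sum_product]
      refine Finset.sum_congr rfl fun g _ => ?_
      rw [Finset.card_filter]
    have h2 : ∀ g ∈ Cs, (Cs'.filter (fun h => Commute g h ∧ g * h ≠ 1)).card + 1 = j := by
      intro g hg
      have hg' : IsConj y g := by simpa [hCs] using hg
      rw [← hT g hg']
      have hmem : g⁻¹ ∈ Cs'.filter (fun h => Commute g h) := by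
        simp only [hCs', mem_filter, mem_univ, true_and]
        exact ⟨conj_inv_of_conj hg', (Commute.refl g).inv_right⟩
      have he : Cs'.filter (fun h => Commute g h ∧ g * h ≠ 1) =
          (Cs'.filter (fun h => Commute g h)).erase g⁻¹ := by
        ext x
        simp only [mem_filter, mem_erase]
        constructor
        · rintro ⟨h1, h2, h3⟩
          refine ⟨?_, h1, h2⟩
          intro hx
          apply h3
          rw [hx, mul_inv_cancel]
        · rintro ⟨h1, h2, h3⟩
          refine ⟨h2, h3, ?_⟩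
          intro hx
          apply h1
          exact eq_inv_of_mul_eq_one_right hx
      rw [he, Finset.card_erase_of_mem hmem, Nat.sub_add_cancel]
      exact Finset.card_pos.mpr ⟨g⁻¹, hmem⟩
    have h3 : ∑ g ∈ Cs, ((Cs'.filter (fun h => Commute g h ∧ g * h ≠ 1)).card + 1) =
        ∑ _g ∈ Cs, j := Finset.sum_congr rfl h2
    rw [Finset.sum_add_distrib, Finset.sum_const, Finset.sum_const, smul_eq_mul, smul_eq_mul,
      mul_one, ← h1] at h3
    rw [h3, mul_comm]
  have hPeq : Pc = P := by
    apply Finset.eq_of_subset_of_card_le hsub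
    rw [hCs_card] at hPcard
    have h5 : 2 * (P.card + Cs.card) = 2 * (j * Cs.card) := by linarith
    omega
  intro g h hg hh hE
  have hmem : (g, h) ∈ P := by
    simp only [hP, hCs, hCs', mem_filter, mem_product, mem_univ, true_and]
    exact ⟨⟨hg, hh⟩, hE⟩
  rw [← hPeq] at hmem
  simp only [hPc, mem_filter] at hmem
  exact hmem.2.1

/-- the conclusions on `Q = C(y)` -/
theorem Core.main [Finite G] {E : G → Prop} {j : ℕ} (hC : Core E j) (y : G) (hy : E y) :
    (∀ a ∈ Subgroup.centralizer ({y} : Set G), ∀ b ∈ Subgroup.centralizer ({y} : Set G),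
      a * b = b * a) ∧
    (∀ x ∈ Subgroup.centralizer ({y} : Set G), x ≠ 1 →
      Subgroup.centralizer ({x} : Set G) = Subgroup.centralizer ({y} : Set G)) ∧
    Nat.card (Subgroup.normalizer ((Subgroup.centralizer ({y} : Set G) : Subgroup G) : Set G))
      = (2 * j + 1) * j := by
  classical
  have := Fintype.ofFinite G
  have hstar := hC.star y hy
  set Q := Subgroup.centralizer ({y} : Set G) with hQ
  have hyQ : y ∈ Q := mem_cent.mpr rfl
  have hEQ : ∀ x ∈ Q, x ≠ 1 → E x := fun x hx hx1 => hC.cent y hy x hx hx1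
  have D1 : ∀ a ∈ Q, ∀ b ∈ Q, IsConj y a → IsConj y⁻¹ b → Commute a b := by
    intro a ha b hb hca hcb
    by_cases h1 : a * b = 1
    · have hb' : b = a⁻¹ := eq_inv_of_mul_eq_one_right h1
      rw [hb']
      exact (Commute.refl a).inv_right
    · exact hstar a b hca hcb (hEQ _ (mul_mem ha hb) h1)
  have hab : ∀ a ∈ Q, ∀ b ∈ Q, Commute a b := by
    intro a ha b hb
    by_cases ha1 : a = 1
    · rw [ha1]
      exact Commute.one_left b
    by_cases hb1 : b = 1
    · rw [hb1]
      exact Commute.one_right a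
    rcases hC.cls y a hy (hEQ a ha ha1) with hca | hca <;>
      rcases hC.cls y b hy (hEQ b hb hb1) with hcb | hcb
    · exact Commute.inv_right_iff.mp (D1 a ha b⁻¹ (inv_mem hb) hca (conj_inv_of_conj hcb))
    · exact D1 a ha b hb hca hcb
    · exact (D1 b hb a ha hcb hca).symm
    · exact Commute.inv_left_iff.mp (D1 a⁻¹ (inv_mem ha) b hb (conj_of_conj_inv hca) hcb)
  have hcentQ : ∀ x ∈ Q, x ≠ 1 → Subgroup.centralizer ({x} : Set G) = Q := by
    intro x hx hx1
    symm
    apply Subgroup.eq_of_le_of_card_ge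
    · intro b hb
      rw [mem_cent]
      exact (hab x hx b hb).eq
    · rw [hC.cardC x (hEQ x hx hx1), hC.cardC y hy]
  refine ⟨fun a ha b hb => (hab a ha b hb).eq, hcentQ, ?_⟩
  -- the order of the normalizer
  set Nn := Subgroup.normalizer (Q : Set G) with hNn
  set Qs : Finset G := univ.filter (fun x => x ∈ Q ∧ x ≠ 1) with hQs
  have hQs_card : Qs.card = 2 * j := by
    have h1 : (univ.filter (fun x => x ∈ Q)).card = 2 * j + 1 := by
      rw [← hC.cardC y hy, Nat.card_eq_fintype_card, Fintype.card_subtype]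
    have h2 : Qs = (univ.filter (fun x => x ∈ Q)).erase 1 := by
      ext x
      simp only [hQs, mem_filter, mem_univ, true_and, mem_erase]
      exact ⟨fun h => ⟨h.2, h.1⟩, fun h => ⟨h.2, h.1⟩⟩
    rw [h2, Finset.card_erase_of_mem (by simp [one_mem]), h1]
    rfl
  set A : Finset (G × G) := univ ×ˢ Qs with hA
  set Es : Finset G := univ.filter (fun x => E x) with hEs
  have hEs_card : Es.card = 4 * (j + 1) * j := by
    rw [← hC.cardE, Nat.card_eq_fintype_card, Fintype.card_subtype]
  have hNs : Nat.card Nn = (univ.filter (fun n => n ∈ Nn)).card := by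
    rw [Nat.card_eq_fintype_card, Fintype.card_subtype]
  have hfib : ∀ e ∈ Es, (A.filter (fun p => p.1 * p.2 * p.1⁻¹ = e)).card =
      (univ.filter (fun n => n ∈ Nn)).card := by
    intro e he
    have heE : E e := by simpa [hEs] using he
    obtain ⟨g₀, x₀, hx₀Q, hx₀1, hgx⟩ : ∃ g₀ x₀, x₀ ∈ Q ∧ x₀ ≠ 1 ∧ g₀ * x₀ * g₀⁻¹ = e := by
      rcases hC.cls y e hy heE with h | h
      · obtain ⟨c, hc⟩ := isConj_iff.mp h
        exact ⟨c, y, hyQ, hC.ne_one hy, hc⟩
      · obtain ⟨c, hc⟩ := isConj_iff.mp h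
        exact ⟨c, y⁻¹, inv_mem hyQ, inv_ne_one.mpr (hC.ne_one hy), hc⟩
    symm
    apply Finset.card_bij (fun n _ => (g₀ * n⁻¹, n * x₀ * n⁻¹))
    · intro n hn
      simp only [mem_filter, mem_univ, true_and] at hn
      simp only [hA, hQs, mem_filter, mem_product, mem_univ, true_and]
      refine ⟨⟨?_, ?_⟩, ?_⟩
      · exact (Subgroup.mem_normalizer_iff.mp hn x₀).mp hx₀Q
      · intro h
        apply hx₀1
        have h0 : x₀ = n⁻¹ * (n * x₀ * n⁻¹) * n := by group
        rw [h0, h]
        group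
      · rw [← hgx]
        group
    · intro n _ n' _ hnn'
      have h0 := congrArg Prod.fst hnn'
      simp only at h0
      exact inv_injective (mul_left_cancel h0)
    · intro p hp
      simp only [hA, hQs, mem_filter, mem_product, mem_univ, true_and] at hp
      obtain ⟨⟨hpQ, hp1⟩, hpe⟩ := hp
      have hnx : (p.1⁻¹ * g₀) * x₀ * (p.1⁻¹ * g₀)⁻¹ = p.2 := by
        have h0 : (p.1⁻¹ * g₀) * x₀ * (p.1⁻¹ * g₀)⁻¹ = p.1⁻¹ * (g₀ * x₀ * g₀⁻¹) * p.1 := by
          group
        rw [h0, hgx, ← hpe]
        group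
      refine ⟨p.1⁻¹ * g₀, ?_, ?_⟩
      · simp only [mem_filter, mem_univ, true_and]
        rw [hNn, Subgroup.mem_normalizer_iff]
        intro b
        have e1 : b ∈ Q ↔ x₀ * b = b * x₀ := by
          rw [← hcentQ x₀ hx₀Q hx₀1, mem_cent]
        have e2 : (p.1⁻¹ * g₀) * b * (p.1⁻¹ * g₀)⁻¹ ∈ Q ↔
            p.2 * ((p.1⁻¹ * g₀) * b * (p.1⁻¹ * g₀)⁻¹) =
              ((p.1⁻¹ * g₀) * b * (p.1⁻¹ * g₀)⁻¹) * p.2 := by
          rw [← hcentQ p.2 hpQ hp1, mem_cent]
        rw [e1, e2, ← hnx]
        constructor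
        · intro h
          have h0 : (p.1⁻¹ * g₀) * x₀ * (p.1⁻¹ * g₀)⁻¹ *
              ((p.1⁻¹ * g₀) * b * (p.1⁻¹ * g₀)⁻¹) =
              (p.1⁻¹ * g₀) * (x₀ * b) * (p.1⁻¹ * g₀)⁻¹ := by group
          rw [h0, h]
          group
        · intro h
          have h0 : x₀ * b = (p.1⁻¹ * g₀)⁻¹ * ((p.1⁻¹ * g₀) * x₀ * (p.1⁻¹ * g₀)⁻¹ *
              ((p.1⁻¹ * g₀) * b * (p.1⁻¹ * g₀)⁻¹)) * (p.1⁻¹ * g₀) := by group
          rw [h0, h]
          group
      · apply Prod.ext
        · show g₀ * (p.1⁻¹ * g₀)⁻¹ = p.1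
          group
        · exact hnx
  have hAcard : A.card = ∑ e ∈ Es, (A.filter (fun p => p.1 * p.2 * p.1⁻¹ = e)).card := by
    apply Finset.card_eq_sum_card_fiberwise
    intro p hp
    rw [Finset.mem_coe] at hp ⊢
    simp only [hA, hQs, mem_filter, mem_product, mem_univ, true_and] at hp
    simp only [hEs, mem_filter, mem_univ, true_and]
    exact hC.conj p.2 p.1 (hEQ p.2 hp.1 hp.2)
  rw [Finset.sum_congr rfl hfib, Finset.sum_const, smul_eq_mul, hEs_card] at hAcard
  have hA2 : A.card = Fintype.card G * (2 * j) := by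
    rw [hA, Finset.card_product, Finset.card_univ, hQs_card]
  rw [hA2, ← Nat.card_eq_fintype_card, hC.cardG, ← hNs] at hAcard
  have hj : 0 < j := by
    have h0 := hC.count y y hy hy
    omega
  have h4 : 0 < 4 * (j + 1) * j := by positivity
  apply Nat.eq_of_mul_eq_mul_left h4
  rw [← hAcard]
  ring

end Cfsg.Agent.Lib.Helper48.BSWE0B
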