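import Cfsg.Agent.Lib.Helper46.BSW0
import Cfsg.Agent.Lib.Helper4.CharExp2
import Cfsg.Agent.Lib.Helper48.BSWE0BCore

set_option autoImplicit false

/-! S3282 piece E0B (job 451, for helper46): `qdata_exists`. -/

namespace Cfsg.Agent.Lib.Helper46.BSW

open Cfsg Cfsg.Agent.Lib.Helper4

universe u

variable {G : Type u} [Group G]

/-! ### Piece E0B : the subgroup `Q` (case `δ = -1`) -/
theorem qdata_exists [Finite G] {t s : G} {K : Subgroup G} (h : Setup t s K)
    (hk : 4 ≤ Nat.card K) (Δ : IrrCharacter G) (hS : Stage1 K (-1) Δ)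
    (hcard : ∀ y, Off K y → (Δ : G → ℂ) y = 0 →
      Nat.card (Subgroup.centralizer ({y} : Set G)) + 1 = 2 * Nat.card K)
    (hnr : ∀ y, Off K y → (Δ : G → ℂ) y = 0 → ¬ IsConj y y⁻¹)
    (hcent : ∀ y, Off K y → (Δ : G → ℂ) y = 0 →
      ∀ x ∈ Subgroup.centralizer ({y} : Set G), x ≠ 1 → Off K x ∧ (Δ : G → ℂ) x = 0)
    (hcls : ∀ y y', Off K y → (Δ : G → ℂ) y = 0 → Off K y' → (Δ : G → ℂ) y' = 0 →
      IsConj y y' ∨ IsConj y⁻¹ y')
    (hcount : ∀ y y₃ : G, Off K y → (Δ : G → ℂ) y = 0 → Off K y₃ → (Δ : G → ℂ) y₃ = 0 →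
      2 * Nat.card {p : G × G // IsConj y p.1 ∧ IsConj y⁻¹ p.2 ∧ p.1 * p.2 = y₃} + 2
        = Nat.card K) :
    ∃ Q : Subgroup G, QData K Δ Q := by
  classical
  obtain ⟨j, hj⟩ : ∃ j, Nat.card K = j + 1 := ⟨Nat.card K - 1, by omega⟩
  have hj3 : 3 ≤ j := by omega
  obtain ⟨E, hE⟩ : ∃ E : G → Prop, E = fun y => Off K y ∧ (Δ : G → ℂ) y = 0 := ⟨_, rfl⟩
  have hEiff : ∀ y, E y ↔ (Off K y ∧ (Δ : G → ℂ) y = 0) := fun y => by rw [hE]
  have hcore : Cfsg.Agent.Lib.Helper48.BSWE0B.Core E j :=
    { conj := by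
        intro y g hy
        rw [hEiff] at hy ⊢
        obtain ⟨h1, h2⟩ := hy
        refine ⟨?_, ?_⟩
        · intro c
          have h0 := h1 (c * g)
          have e : c * (g * y * g⁻¹) * c⁻¹ = c * g * y * (c * g)⁻¹ := by group
          rw [e]
          exact h0
        · rw [isClassFunction_irr Δ y g]
          exact h2
      inv := by
        intro y hy
        rw [hEiff] at hy ⊢
        obtain ⟨h1, h2⟩ := hy
        refine ⟨?_, ?_⟩
        · intro c hc
          apply h1 c
          have h0 := inv_mem hc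
          have e : (c * y⁻¹ * c⁻¹)⁻¹ = c * y * c⁻¹ := by group
          rwa [e] at h0
        · rw [irr_inv Δ y, h2, map_zero]
      one := by
        intro h1
        rw [hEiff] at h1
        apply h1.1 1
        simp [one_mem]
      cardE := by
        have h0 := hS.card_E0
        rw [hj] at h0
        push_cast at h0
        have h1 : (Nat.card {z : G // E z} : ℤ) = ((4 * (j + 1) * j : ℕ) : ℤ) := by
          rw [hE]
          push_cast
          rw [h0]
          ring
        exact_mod_cast h1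
      cardC := by
        intro y hy
        rw [hEiff] at hy
        have h0 := hcard y hy.1 hy.2
        omega
      nr := by
        intro y hy
        rw [hEiff] at hy
        exact hnr y hy.1 hy.2
      cent := by
        intro y hy x hx hx1
        rw [hEiff] at hy ⊢
        exact hcent y hy.1 hy.2 x hx hx1
      cls := by
        intro y y' hy hy'
        rw [hEiff] at hy hy'
        exact hcls y y' hy.1 hy.2 hy'.1 hy'.2
      count := by
        intro y y₃ hy hy₃
        rw [hEiff] at hy hy₃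
        have h0 := hcount y y₃ hy.1 hy.2 hy₃.1 hy₃.2
        omega
      cardG := by
        have h0 := hS.a.index
        rw [hj] at h0
        push_cast at h0
        have h1 : (Nat.card G : ℤ) = ((2 * (j + 1) * (2 * j + 1) * j : ℕ) : ℤ) := by
          push_cast
          rw [h0]
          ring
        exact_mod_cast h1 }
  obtain ⟨y, hy⟩ : ∃ y, E y := by
    have h0 : 0 < Nat.card {z : G // E z} := by
      rw [hcore.cardE]
      positivity
    obtain ⟨⟨y, hy⟩⟩ := (Nat.card_pos_iff.mp h0).1
    exact ⟨y, hy⟩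
  obtain ⟨hab, hcq, hN⟩ := hcore.main y hy
  refine ⟨Subgroup.centralizer ({y} : Set G), ?_⟩
  exact
    { hab := hab
      card := by
        rw [hcore.cardC y hy, hj]
        ring
      cent := hcq
      off := fun x hx hx1 => ((hEiff x).mp (hcore.cent y hy x hx hx1)).1
      val := fun x hx hx1 => ((hEiff x).mp (hcore.cent y hy x hx hx1)).2
      normCard := by
        rw [hN, hcore.cardC y hy, hj]
        ring }

end Cfsg.Agent.Lib.Helper46.BSW
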