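import Mathlib

/-!
# Numerical facts for the outer automorphism group of the small Ree groups

The number of automorphisms of the field of order `3^(2m+1)` and the `3`-part of the order of
`²G₂(3^(2m+1))`.
-/

set_option autoImplicit false

namespace Cfsg.Agent.Lib.Helper48.RG

/-- the number of automorphisms of the field of order `3^(2m+1)` -/
theorem card_ringAut3 {F : Type*} [Field F] [Fintype F] [CharP F 3] {m : ℕ}
    (hF : Fintype.card F = 3 ^ (2 * m + 1)) : Nat.card (F ≃+* F) = 2 * m + 1 := by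
  let _ : Algebra (ZMod 3) F := ZMod.algebra F 3
  let e : (F ≃ₐ[ZMod 3] F) ≃ (F ≃+* F) :=
    { toFun := fun f => f.toRingEquiv
      invFun := fun f => AlgEquiv.ofRingEquiv (f := f) (fun x =>
        RingHom.congr_fun (Subsingleton.elim ((f : F →+* F).comp (algebraMap (ZMod 3) F))
          (algebraMap (ZMod 3) F)) x)
      left_inv := fun f => by ext x; rfl
      right_inv := fun f => by ext x; rfl }
  rw [← Nat.card_congr e, IsGalois.card_aut_eq_finrank]
  have h1 := Module.card_eq_pow_finrank (K := ZMod 3) (V := F)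
  rw [hF, ZMod.card] at h1
  exact (Nat.pow_right_injective (by norm_num : 2 ≤ 3) h1).symm

/-- the `3`-part of `q³ (q - 1) (q³ + 1)` for `q = 3^(2m+1)` -/
theorem fact3 (m : ℕ) :
    ((3 ^ (2 * m + 1)) ^ 3 * (3 ^ (2 * m + 1) - 1) * ((3 ^ (2 * m + 1)) ^ 3 + 1)).factorization 3 =
      3 * (2 * m + 1) := by
  have hq3 : 3 ∣ 3 ^ (2 * m + 1) := dvd_pow_self 3 (by omega)
  have hq33 : 3 ∣ (3 ^ (2 * m + 1)) ^ 3 := dvd_pow hq3 (by norm_num)
  have hq1 : 1 ≤ 3 ^ (2 * m + 1) := Nat.one_le_pow _ _ (by norm_num)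
  have hq2 : 3 ≤ 3 ^ (2 * m + 1) := Nat.le_of_dvd (by omega) hq3
  have e1 : (3 ^ (2 * m + 1)) ^ 3 = 3 ^ (3 * (2 * m + 1)) := by
    rw [← pow_mul, mul_comm]
  have hA : ((3 ^ (2 * m + 1)) ^ 3).factorization 3 = 3 * (2 * m + 1) := by
    rw [e1, Nat.Prime.factorization_pow Nat.prime_three, Finsupp.single_eq_same]
  have hB : (3 ^ (2 * m + 1) - 1).factorization 3 = 0 :=
    Nat.factorization_eq_zero_of_not_dvd (by omega)
  have hC : ((3 ^ (2 * m + 1)) ^ 3 + 1).factorization 3 = 0 :=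
    Nat.factorization_eq_zero_of_not_dvd (by omega)
  have n1 : (3 ^ (2 * m + 1)) ^ 3 ≠ 0 := by positivity
  have n2 : 3 ^ (2 * m + 1) - 1 ≠ 0 := by omega
  have n3 : (3 ^ (2 * m + 1)) ^ 3 + 1 ≠ 0 := by omega
  rw [Nat.factorization_mul (Nat.mul_ne_zero n1 n2) n3, Nat.factorization_mul n1 n2]
  simp only [Finsupp.coe_add, Pi.add_apply]
  rw [hA, hB, hC, add_zero, add_zero]

end Cfsg.Agent.Lib.Helper48.RG
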