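import Cfsg.Agent.Lib.Helper81.ROBase
import Cfsg.Agent.Lib.Helper27.ReeGen
import Cfsg.Agent.Lib.Helper27.ReeBN
import Cfsg.Agent.Lib.Helper27.ReeH
import Cfsg.Agent.Lib.Helper27.ReeOdd
import Cfsg.Agent.Lib.Helper24.ReeRk
import Cfsg.Agent.S1069
import Cfsg.Agent.Lib.Helper48.RGNum

/-!
# The small Ree groups satisfy the hypotheses of the abstract outer-automorphism theorem

Instantiation of `Cfsg.Agent.Lib.Helper81.RO.Ok` for `G = ²G₂(3^(2m+1)) = twistedG2 K (3^m)`: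
`θ x = x^(3·3^m)`, `T a b c` the generating word of `U¹`, `H s` the element of `H¹` whose
character at the root `b` is `s`, and `w = n₀`.  The field automorphisms are a hypothesis here
(`hfield`), supplied separately.
-/

set_option autoImplicit false
set_option maxHeartbeats 400000

namespace Cfsg.Agent.Lib.Helper48.RG

open Cfsg.Lie Matrix
open Cfsg.Agent.Lib.Helper24
open Cfsg.Agent.Lib.Helper27 Cfsg.Agent.Lib.Helper27.Ree
open Cfsg.Agent.Lib.Helper81.RO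

variable {K : Type*} [Field K]

/-! ### generic group lemmas -/

theorem inv_cell {G : Type*} [Group G] (A N B : G) (hN : N⁻¹ = N) (e : A * N * B = N) :
    B⁻¹ * N * A⁻¹ = 1 * N * 1 := by
  rw [one_mul, mul_one]
  have h : B⁻¹ * N * A⁻¹ = (A * N⁻¹ * B)⁻¹ := by group
  rw [h, hN, e, hN]

theorem inv_decomp {G : Type*} [Group G] (g b N u : G) (hN : N⁻¹ = N) (e : g⁻¹ = b * N * u) :
    g = u⁻¹ * N * b⁻¹ := by
  have h1 : g = (b * N * u)⁻¹ := by rw [← e, inv_inv]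
  have h2 : (b * N * u)⁻¹ = u⁻¹ * N⁻¹ * b⁻¹ := by group
  rw [h1, h2, hN]

/-! ### the words of `U¹` -/

theorem wU_congr {e : ℕ} {t u v t' u' v' : K} (h1 : t = t') (h2 : u = u') (h3 : v = v') :
    wGL chevG2 hG2 (reeWordU e t u v) = wGL chevG2 hG2 (reeWordU e t' u' v') := by
  subst h1 h2 h3
  rfl

theorem wU_inj [CharP K 3] (e : ℕ) (t u v t' u' v' : K)
    (h : wGL chevG2 hG2 (reeWordU e t u v) = wGL chevG2 hG2 (reeWordU e t' u' v')) :
    t = t' ∧ u = u' ∧ v = v' := by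
  rw [reeU_nf, reeU_nf] at h
  obtain ⟨i1, -, -, -, i5, i6⟩ := u6_inj _ _ _ _ _ _ _ _ _ _ _ _ h
  subst i1
  exact ⟨rfl, add_right_cancel i5, add_right_cancel i6⟩

theorem wU_mem_pos [CharP K 3] (e : ℕ) (t u v : K) :
    wGL chevG2 hG2 (reeWordU e t u v) ∈ chevG2.posUnipotent K := by
  rw [reeU_nf]
  exact u6_mem_pos _ _ _ _ _ _

theorem torus_xGL (x : GL chevG2.Idx K) (d : ℕ → K) (hd : MulGraded chevG2 d)
    (hx : (x : Matrix chevG2.Idx chevG2.Idx K) = torus K chevG2 d) (r : ℕ)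
    (hr : r < chevG2.nroots) (t : K) :
    x * xGL chevG2 hG2 r t = xGL chevG2 hG2 r (d r * t) * x := by
  apply Units.ext
  rw [Units.val_mul, Units.val_mul, xGL_val, xGL_val, hx]
  exact torus_mul_x chevG2 d hd r hr t

theorem n0_inv : (n0 K)⁻¹ = n0 K := inv_eq_of_mul_eq_one_right n0_sq

section gl

variable [CharP K 3] {e : ℕ} {σ : ↥(chevG2.group K) →* ↥(chevG2.group K)} (hσ : IsSig e σ)
  (hF : ∀ x : K, (x ^ e) ^ (3 * e) = x) (hadd : ∀ x y : K, (x + y) ^ e = x ^ e + y ^ e)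
  (hsub : ∀ x y : K, (x - y) ^ e = x ^ e - y ^ e) (hodd : Odd e)
include hσ hF hadd hsub hodd

theorem U1_wU (g : GL chevG2.Idx K) (hg : g ∈ chevG2.posUnipotent K ⊓ twistedG2 K e) :
    ∃ t u v : K, g = wGL chevG2 hG2 (reeWordU e t u v) := by
  obtain ⟨t, u, v, h⟩ := (U1_iff hσ hF hadd hodd hsub g).1 hg
  exact ⟨t, u, v, Units.ext (by rw [h, wGL_val])⟩

theorem decomp_GL (g : GL chevG2.Idx K) (hg : g ∈ twistedG2 K e) :
    g ∈ chevG2.borelSubgroup K ⊓ twistedG2 K e ∨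
      ∃ b ∈ chevG2.borelSubgroup K ⊓ twistedG2 K e,
        ∃ u ∈ chevG2.posUnipotent K ⊓ twistedG2 K e, g = b * n0 K * u :=
  (ReeRk.reeRk hσ hF hadd hsub hodd).decomp g hg

theorem borel_GL (b : GL chevG2.Idx K) (hb : b ∈ chevG2.borelSubgroup K ⊓ twistedG2 K e) :
    ∃ u ∈ chevG2.posUnipotent K ⊓ twistedG2 K e,
      ∃ h ∈ chevG2.diagonalSubgroup K ⊓ twistedG2 K e, b = u * h :=
  (ReeRk.reeRk hσ hF hadd hsub hodd).borel_decomp b hb

theorem cell_GL (b b' u u' : GL chevG2.Idx K) (hb : b ∈ chevG2.borelSubgroup K)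
    (hb' : b' ∈ chevG2.borelSubgroup K) (hu : u ∈ chevG2.posUnipotent K)
    (hu' : u' ∈ chevG2.posUnipotent K) (e1 : b * n0 K * u = b' * n0 K * u') :
    b = b' ∧ u = u' :=
  (ReeRk.reeRk hσ hF hadd hsub hodd).cell_unique b b' u u' hb hb' hu hu' e1

/-- `n₀` inverts `H¹` -/
theorem n0_H1 (h : GL chevG2.Idx K) (hH : h ∈ chevG2.diagonalSubgroup K)
    (hG : h ∈ twistedG2 K e) :
    n0 K * h * n0 K ∈ chevG2.diagonalSubgroup K ∧ n0 K * h * n0 K ∈ twistedG2 K e ∧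
      dEnt chevG2 (n0 K * h * n0 K) 7 = (dEnt chevG2 h 7)⁻¹ := by
  have he : e ≠ 0 := by
    rintro rfl
    exact absurd hodd (by decide)
  have hn : n0 K ∈ twistedG2 K e := n0_mem e he
  have h1 : n0 K * h * n0 K ∈ chevG2.diagonalSubgroup K := by
    have := ((Subgroup.mem_set_normalizer_iff.1
      (monomial_le_normalizer_diagonal chevG2 hG2 n0_mono)) h).1 hH
    rwa [n0_inv] at this
  have h2 : n0 K * h * n0 K ∈ twistedG2 K e := Subgroup.mul_mem _ (Subgroup.mul_mem _ hn hG) hn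
  refine ⟨h1, h2, ?_⟩
  obtain ⟨d, hd, hx⟩ := diagonalSubgroup_le_gradedTorus chevG2 hG2 hH
  obtain ⟨d', hd', hx'⟩ := diagonalSubgroup_le_gradedTorus chevG2 hG2 h1
  rw [dEnt_torus chevG2 _ d' hx' 7 g2_lt.2.1, dEnt_torus chevG2 _ d hx 7 g2_lt.2.1]
  have h4 : 4 < chevG2.nroots := lt_trans (by norm_num : (4 : ℕ) < 6) g2_lt.1
  have k1 : n0 K * h * n0 K * xGL chevG2 hG2 7 1 =
      xGL chevG2 hG2 7 (d' 7 * 1) * (n0 K * h * n0 K) :=
    torus_xGL _ d' hd' hx' 7 g2_lt.2.1 1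
  have hneg4 : chevG2.neg 4 = 7 := by decide
  have a1 : n0 K * xGL chevG2 hG2 7 (1 : K) = xGL chevG2 hG2 4 (-1) * n0 K := by
    have := n0_conj_all (K := K) 7 (by norm_num) 1
    rwa [g2_neg.2.1] at this
  have a2 : h * xGL chevG2 hG2 4 (-1 : K) = xGL chevG2 hG2 4 (d 4 * (-1)) * h :=
    torus_xGL h d hd hx 4 h4 (-1)
  have a3 : n0 K * xGL chevG2 hG2 4 (d 4 * (-1)) =
      xGL chevG2 hG2 7 (-(d 4 * (-1))) * n0 K := by
    have := n0_conj_all (K := K) 4 (by norm_num) (d 4 * (-1))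
    rwa [hneg4] at this
  have k2 : n0 K * h * n0 K * xGL chevG2 hG2 7 1 =
      xGL chevG2 hG2 7 (-(d 4 * (-1))) * (n0 K * h * n0 K) := by
    calc n0 K * h * n0 K * xGL chevG2 hG2 7 1
        = n0 K * h * (n0 K * xGL chevG2 hG2 7 1) := by simp only [mul_assoc]
      _ = n0 K * (h * xGL chevG2 hG2 4 (-1)) * n0 K := by rw [a1]; simp only [mul_assoc]
      _ = (n0 K * xGL chevG2 hG2 4 (d 4 * (-1))) * h * n0 K := by rw [a2]; simp only [mul_assoc]
      _ = xGL chevG2 hG2 7 (-(d 4 * (-1))) * (n0 K * h * n0 K) := by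
        rw [a3]; simp only [mul_assoc]
  have k4 := mul_right_cancel (k1.symm.trans k2)
  have k5 := congrArg (fun g : GL chevG2.Idx K => (g : Matrix chevG2.Idx chevG2.Idx K)) k4
  simp only [xGL_val] at k5
  have k6 := x_inj chevG2 hG2 7 g2_lt.2.1 _ _ k5
  have k7 : d 4 * d 7 = 1 := by
    have := hd.neg 7 g2_lt.2.1
    rwa [g2_neg.2.1] at this
  have k8 : d' 7 = d 4 := by linear_combination k6
  exact eq_inv_of_mul_eq_one_left (by rw [k8, k7])

end gl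

/-! ### the data -/

section data

variable (K) [CharP K 3] (m : ℕ)

/-- the Tits endomorphism `x ↦ x^(3·3^m)` -/
noncomputable def thetaHom : K →+* K := iterateFrobenius K 3 (m + 1)

/-- the elements of `U¹` -/
noncomputable def TR (a b c : K) : ↥(twistedG2 K (3 ^ m)) :=
  ⟨wGL chevG2 hG2 (reeWordU (3 ^ m) a b c), reeU_mem (3 ^ m) a b c⟩

/-- the element `n₀` -/
noncomputable def wR : ↥(twistedG2 K (3 ^ m)) :=
  ⟨n0 K, n0_mem (3 ^ m) (pow_ne_zero m (by norm_num))⟩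

/-- the unipotent subgroup `U¹` as a subgroup of `²G₂` -/
noncomputable def QR : Subgroup ↥(twistedG2 K (3 ^ m)) :=
  (chevG2.posUnipotent K ⊓ twistedG2 K (3 ^ m)).subgroupOf (twistedG2 K (3 ^ m))

end data

theorem thetaHom_apply [CharP K 3] (m : ℕ) (x : K) : thetaHom K m x = x ^ (3 * 3 ^ m) := by
  show iterateFrobenius K 3 (m + 1) x = _
  rw [iterateFrobenius_def, pow_succ, mul_comm]

/-- the torus elements, parametrised by their character at the root `b` -/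
theorem exists_HR [Fintype K] [CharP K 3] (m : ℕ) (hK : Fintype.card K = 3 ^ (2 * m + 1)) :
    ∃ H : Kˣ → ↥(twistedG2 K (3 ^ m)),
      (∀ s s', H (s * s') = H s * H s') ∧
      (∀ s, (H s : GL chevG2.Idx K) ∈ chevG2.diagonalSubgroup K) ∧
      (∀ s : Kˣ, dEnt chevG2 (H s : GL chevG2.Idx K) 7 = (s : K) ^ 3 ^ m) ∧
      (∀ h ∈ chevG2.diagonalSubgroup K ⊓ twistedG2 K (3 ^ m),
        ∃ s, h = (H s : GL chevG2.Idx K)) := by
  classical
  obtain ⟨σ, hσ⟩ := exists_sig m hK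
  obtain ⟨hF, hadd, hsub, hodd⟩ := field_facts m hK
  obtain ⟨ψ, hinj, hψ⟩ := exists_H1_hom hσ hF hadd hodd
  have hcard : Nat.card ↥(chevG2.diagonalSubgroup K ⊓ twistedG2 K (3 ^ m)) = Nat.card Kˣ := by
    rw [H1_card m hK, Nat.card_eq_fintype_card, Fintype.card_units, hK]
  have hbij : Function.Bijective ψ := (Nat.bijective_iff_injective_and_card ψ).2 ⟨hinj, hcard⟩
  let E : ↥(chevG2.diagonalSubgroup K ⊓ twistedG2 K (3 ^ m)) ≃* Kˣ :=
    MulEquiv.ofBijective ψ hbij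
  have hE : ∀ y : Kˣ, ψ (E.symm y) = y := fun y => E.apply_symm_apply y
  refine ⟨fun s => ⟨(E.symm (s ^ 3 ^ m)).1, (E.symm (s ^ 3 ^ m)).2.2⟩, ?_, ?_, ?_, ?_⟩
  · intro s s'
    apply Subtype.ext
    show (E.symm ((s * s') ^ 3 ^ m)).1 = (E.symm (s ^ 3 ^ m)).1 * (E.symm (s' ^ 3 ^ m)).1
    rw [mul_pow, map_mul]
    rfl
  · intro s
    exact (E.symm (s ^ 3 ^ m)).2.1
  · intro s
    show dEnt chevG2 (E.symm (s ^ 3 ^ m)).1 7 = _
    rw [← hψ, hE, Units.val_pow_eq_pow_val]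
  · intro h hh
    have hF' : ∀ x : K, (x ^ (3 * 3 ^ m)) ^ 3 ^ m = x := fun x => by
      rw [← pow_mul, mul_comm, pow_mul]; exact hF x
    refine ⟨(ψ ⟨h, hh⟩) ^ (3 * 3 ^ m), ?_⟩
    have e1 : ((ψ ⟨h, hh⟩) ^ (3 * 3 ^ m)) ^ 3 ^ m = ψ ⟨h, hh⟩ := by
      apply Units.ext
      rw [Units.val_pow_eq_pow_val, Units.val_pow_eq_pow_val]
      exact hF' _
    show h = (E.symm (((ψ ⟨h, hh⟩) ^ (3 * 3 ^ m)) ^ 3 ^ m)).1
    rw [e1]
    have e2 : E.symm (ψ ⟨h, hh⟩) = ⟨h, hh⟩ := E.symm_apply_apply ⟨h, hh⟩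
    rw [e2]

/-- the torus elements -/
noncomputable def HR [Fintype K] [CharP K 3] (m : ℕ) (hK : Fintype.card K = 3 ^ (2 * m + 1)) :
    Kˣ → ↥(twistedG2 K (3 ^ m)) := Classical.choose (exists_HR m hK)

theorem HR_spec [Fintype K] [CharP K 3] (m : ℕ) (hK : Fintype.card K = 3 ^ (2 * m + 1)) :
    (∀ s s', HR m hK (s * s') = HR m hK s * HR m hK s') ∧
      (∀ s, (HR m hK s : GL chevG2.Idx K) ∈ chevG2.diagonalSubgroup K) ∧
      (∀ s : Kˣ, dEnt chevG2 (HR m hK s : GL chevG2.Idx K) 7 = (s : K) ^ 3 ^ m) ∧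
      (∀ h ∈ chevG2.diagonalSubgroup K ⊓ twistedG2 K (3 ^ m),
        ∃ s, h = (HR m hK s : GL chevG2.Idx K)) :=
  Classical.choose_spec (exists_HR m hK)

/-- the Tits endomorphism is not the identity -/
theorem exists_theta_ne [Fintype K] [CharP K 3] {m : ℕ} (hm : 1 ≤ m)
    (hK : Fintype.card K = 3 ^ (2 * m + 1)) : ∃ x : K, x ^ (3 * 3 ^ m) ≠ x := by
  classical
  have he : 3 ^ m ≠ 0 := pow_ne_zero _ (by norm_num)
  obtain ⟨ζ, hζ⟩ := IsCyclic.exists_generator (α := Kˣ)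
  have hord : orderOf ζ = Fintype.card K - 1 := by
    rw [orderOf_eq_card_of_forall_mem_zpowers hζ, Nat.card_eq_fintype_card, Fintype.card_units]
  by_contra hall
  simp only [not_exists, not_not] at hall
  have h1 : (ζ : K) ^ (3 * 3 ^ m) = ζ := hall ζ
  have hpos : 1 ≤ 3 * 3 ^ m := Nat.mul_pos (by norm_num) (Nat.pos_of_ne_zero he)
  have h2 : ζ ^ (3 * 3 ^ m - 1) = 1 := by
    apply Units.ext
    rw [Units.val_pow_eq_pow_val, Units.val_one]
    have : (ζ : K) ^ (3 * 3 ^ m - 1) * ζ = ζ := by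
      rw [← pow_succ, Nat.sub_add_cancel hpos, h1]
    exact mul_right_cancel₀ ζ.ne_zero (this.trans (one_mul _).symm)
  have h4 := orderOf_dvd_of_pow_eq_one h2
  rw [hord, hK] at h4
  have h5 : (3 : ℕ) ≤ 3 ^ m := by
    calc 3 = 3 ^ 1 := by norm_num
      _ ≤ 3 ^ m := Nat.pow_le_pow_right (by norm_num) hm
  have h6 : 3 ^ (2 * m + 1) = 3 * 3 ^ m * 3 ^ m := by ring
  have h7 : 3 * 3 ^ m - 1 ≠ 0 := by omega
  have h8 := Nat.le_of_dvd (Nat.pos_of_ne_zero h7) h4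
  rw [h6] at h8
  have h9 : 3 * 3 ^ m * 3 ≤ 3 * 3 ^ m * 3 ^ m := Nat.mul_le_mul_left _ h5
  omega

/-- `U¹` is a Sylow `3`-subgroup of `²G₂` -/
theorem card_QR [Fintype K] [CharP K 3] {m : ℕ} (hK : Fintype.card K = 3 ^ (2 * m + 1)) :
    Nat.card ↥(QR K m) = 3 ^ (Nat.card ↥(twistedG2 K (3 ^ m))).factorization 3 := by
  obtain ⟨σ, hσ⟩ := exists_sig m hK
  obtain ⟨hF, hadd, hsub, hodd⟩ := field_facts m hK
  rw [Cfsg.Agent.S1069.result hK, fact3]
  unfold QR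
  rw [Nat.card_congr (Subgroup.subgroupOfEquivOfLe
      (inf_le_right : chevG2.posUnipotent K ⊓ twistedG2 K (3 ^ m) ≤ twistedG2 K (3 ^ m))).toEquiv,
    U1_card hσ hF hadd hodd hsub, hK, ← pow_mul]
  congr 1
  ring

/-- the small Ree groups satisfy the hypotheses of the abstract theorem -/
theorem ok [Fintype K] [CharP K 3] {m : ℕ} (hK : Fintype.card K = 3 ^ (2 * m + 1)) (hm : 1 ≤ m)
    (hfield : ∀ τ : K ≃+* K, ∃ φ : MulAut ↥(twistedG2 K (3 ^ m)),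
      (∀ a b c, φ (TR K m a b c) = TR K m (τ a) (τ b) (τ c)) ∧ φ (wR K m) = wR K m) :
    Ok (thetaHom K m) (TR K m) (HR m hK) (wR K m) := by
  obtain ⟨σ, hσ⟩ := exists_sig m hK
  obtain ⟨hF, hadd, hsub, hodd⟩ := field_facts m hK
  obtain ⟨hHmul, hHdiag, hHent, hHsurj⟩ := HR_spec m hK
  have hBd : ∀ b ∈ chevG2.borelSubgroup K ⊓ twistedG2 K (3 ^ m), ∃ (a b' c : K) (s : Kˣ),
      b = wGL chevG2 hG2 (reeWordU (3 ^ m) a b' c) * (HR m hK s : GL chevG2.Idx K) := by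
    intro b hb
    obtain ⟨u, hu, h, hh, e⟩ := borel_GL hσ hF hadd hsub hodd b hb
    obtain ⟨t, u', v, rfl⟩ := U1_wU hσ hF hadd hsub hodd u hu
    obtain ⟨s, rfl⟩ := hHsurj h hh
    exact ⟨t, u', v, s, e⟩
  refine
  { θθ := ?_
    θne := ?_
    T_mul := ?_
    T_inj := ?_
    H_mul := hHmul
    H_inj := ?_
    HT := ?_
    w_sq := Subtype.ext n0_sq
    wH := ?_
    cases := ?_
    uniq := ?_
    syl := ?_
    field := hfield }
  · intro x
    rw [thetaHom_apply, thetaHom_apply, ← pow_mul]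
    have e1 : 3 * 3 ^ m * (3 * 3 ^ m) = 3 ^ m * (3 * 3 ^ m) * 3 := by ring
    rw [e1, pow_mul, pow_mul, hF]
  · obtain ⟨x, hx⟩ := exists_theta_ne hm hK
    exact ⟨x, by rw [thetaHom_apply]; exact hx⟩
  · intro a b c a' b' c'
    apply Subtype.ext
    show wGL chevG2 hG2 (reeWordU (3 ^ m) a b c) * wGL chevG2 hG2 (reeWordU (3 ^ m) a' b' c') =
      wGL chevG2 hG2 (reeWordU (3 ^ m) _ _ _)
    rw [reeU_mul hF hadd hsub, thetaHom_apply]
    exact wU_congr rfl rfl (by ring)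
  · intro a b c a' b' c' h
    exact wU_inj _ _ _ _ _ _ _ (congrArg Subtype.val h)
  · intro s h
    have h1 : dEnt chevG2 (HR m hK s : GL chevG2.Idx K) 7 = 1 := by
      rw [h]
      exact dEnt_one
    rw [hHent s] at h1
    apply Units.ext
    rw [Units.val_one, ← hF (s : K), h1, one_pow]
  · intro s a b c
    apply Subtype.ext
    obtain ⟨d, hd, hx, h6⟩ := H1_char hσ hF hadd hodd _ (hHdiag s) (HR m hK s).2
    have h7 : d 7 = (s : K) ^ 3 ^ m := by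
      rw [← hHent s, dEnt_torus chevG2 _ d hx 7 g2_lt.2.1]
    have h6' : d 6 = s := by rw [h6, h7, hF]
    have key := reeU_conj_torus (HR m hK s : GL chevG2.Idx K) d hd hx h6 hF a b c
    have p : ((s : K) ^ 3 ^ m) ^ 3 = (s : K) ^ (3 * 3 ^ m) := by rw [← pow_mul, mul_comm]
    rw [h6', h7, p] at key
    show (HR m hK s : GL chevG2.Idx K) * wGL chevG2 hG2 (reeWordU (3 ^ m) a b c) =
      wGL chevG2 hG2 (reeWordU (3 ^ m) _ _ _) * (HR m hK s : GL chevG2.Idx K)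
    rw [key, thetaHom_apply]
  · intro s
    apply Subtype.ext
    show n0 K * (HR m hK s : GL chevG2.Idx K) * n0 K = (HR m hK s⁻¹ : GL chevG2.Idx K)
    obtain ⟨k1, k2, k3⟩ := n0_H1 hσ hF hadd hsub hodd _ (hHdiag s) (HR m hK s).2
    apply H1_inj hσ hF hadd hodd _ _ k1 k2 (hHdiag s⁻¹) (HR m hK s⁻¹).2
    rw [k3, hHent, hHent, Units.val_inv_eq_inv_val, inv_pow]
  · intro g
    rcases decomp_GL hσ hF hadd hsub hodd (g⁻¹ : ↥(twistedG2 K (3 ^ m))).1 (g⁻¹).2 with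
      hB | ⟨b, hb, u, hu, e⟩
    · left
      have hB' : (g : GL chevG2.Idx K) ∈ chevG2.borelSubgroup K ⊓ twistedG2 K (3 ^ m) := by
        have h1 := Subgroup.inv_mem _ hB
        have h2 : ((g⁻¹ : ↥(twistedG2 K (3 ^ m))).1)⁻¹ = (g : GL chevG2.Idx K) := by
          show ((g : GL chevG2.Idx K)⁻¹)⁻¹ = g
          rw [inv_inv]
        rwa [h2] at h1
      obtain ⟨a, b', c, s, e⟩ := hBd _ hB'
      exact ⟨a, b', c, s, Subtype.ext e⟩
    · right
      have e' : (g : GL chevG2.Idx K) = u⁻¹ * n0 K * b⁻¹ :=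
        inv_decomp (g : GL chevG2.Idx K) b (n0 K) u n0_inv e
      obtain ⟨t, u', v, hu'⟩ := U1_wU hσ hF hadd hsub hodd u⁻¹ (Subgroup.inv_mem _ hu)
      obtain ⟨a, b', c, s, hb'⟩ := hBd b⁻¹ (Subgroup.inv_mem _ hb)
      refine ⟨t, u', v, a, b', c, s, Subtype.ext ?_⟩
      rw [e', hu', hb']
      rfl
  · intro a b c a' b' c' s e
    have e1 : wGL chevG2 hG2 (reeWordU (3 ^ m) a b c) * n0 K *
        (wGL chevG2 hG2 (reeWordU (3 ^ m) a' b' c') * (HR m hK s : GL chevG2.Idx K)) = n0 K :=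
      congrArg Subtype.val e
    have hB : wGL chevG2 hG2 (reeWordU (3 ^ m) a' b' c') * (HR m hK s : GL chevG2.Idx K) ∈
        chevG2.borelSubgroup K :=
      Subgroup.mul_mem _
        ((le_sup_left : chevG2.posUnipotent K ≤ chevG2.borelSubgroup K) (wU_mem_pos _ _ _ _))
        ((le_sup_right : chevG2.diagonalSubgroup K ≤ chevG2.borelSubgroup K) (hHdiag s))
    have e2 := inv_cell _ _ _ n0_inv e1
    obtain ⟨-, h2⟩ := cell_GL hσ hF hadd hsub hodd _ 1 _ 1 (Subgroup.inv_mem _ hB)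
      (Subgroup.one_mem _) (Subgroup.inv_mem _ (wU_mem_pos _ _ _ _)) (Subgroup.one_mem _) e2
    have h3 : wGL chevG2 hG2 (reeWordU (3 ^ m) a b c) =
        wGL chevG2 hG2 (reeWordU (3 ^ m) 0 0 0) := by
      have hz := R_zero hF hadd hsub
      unfold R at hz
      rw [hz]
      exact inv_eq_one.1 h2
    exact wU_inj _ _ _ _ _ _ _ h3
  · refine ⟨Sylow.ofCard (QR K m) (card_QR hK), fun g => ?_⟩
    show (g : GL chevG2.Idx K) ∈ chevG2.posUnipotent K ⊓ twistedG2 K (3 ^ m) ↔ _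
    constructor
    · intro hg
      obtain ⟨t, u, v, h⟩ := U1_wU hσ hF hadd hsub hodd _ hg
      exact ⟨t, u, v, Subtype.ext h⟩
    · rintro ⟨a, b, c, rfl⟩
      exact ⟨wU_mem_pos _ a b c, reeU_mem _ a b c⟩

end Cfsg.Agent.Lib.Helper48.RG
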