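import Cfsg.Agent.Lib.Helper48.RCBase
import Cfsg.Agent.Lib.Helper48.RGInst
import Cfsg.Agent.Lib.Helper24.ChevSL2
import Cfsg.Agent.Lib.Helper24.ReeH

/-!
# Project RC (helper48, S1152 / S1157): the small Ree groups satisfy `Ok0`, and the
homomorphism `SL₂(K) → ²G₂(K)`, `g ↦ φ_{a+b}(g^(3^m)) φ_{3a+b}(g)`.
-/

set_option autoImplicit false
set_option maxHeartbeats 400000

namespace Cfsg.Agent.Lib.Helper48.RC

open Cfsg.Lie Matrix
open Cfsg.Agent.Lib.Helper24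
open Cfsg.Agent.Lib.Helper27 Cfsg.Agent.Lib.Helper27.Ree
open Cfsg.Agent.Lib.Helper48.RG

variable {K : Type*} [Field K]

/-- the small Ree groups (all `m ≥ 0`) satisfy `Ok0` -/
theorem ok0 [Fintype K] [CharP K 3] {m : ℕ} (hK : Fintype.card K = 3 ^ (2 * m + 1)) :
    Ok0 (thetaHom K m) (TR K m) (HR m hK) (wR K m) := by
  obtain ⟨σ, hσ⟩ := exists_sig m hK
  obtain ⟨hF, hadd, hsub, hodd⟩ := field_facts m hK
  obtain ⟨hHmul, hHdiag, hHent, hHsurj⟩ := HR_spec m hK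
  have hBd : ∀ b ∈ chevG2.borelSubgroup K ⊓ twistedG2 K (3 ^ m), ∃ (a b' c : K) (s : Kˣ),
      b = wGL chevG2 hG2 (reeWordU (3 ^ m) a b' c) * (HR m hK s : GL chevG2.Idx K) := by
    intro b hb
    obtain ⟨u, hu, h, hh, e⟩ := borel_GL hσ hF hadd hsub hodd b hb
    obtain ⟨t, u', v, rfl⟩ := U1_wU hσ hF hadd hsub hodd u hu
    obtain ⟨s, rfl⟩ := hHsurj h hh
    exact ⟨t, u', v, s, e⟩
  refine
  { θθ := ?_
    T_mul := ?_
    T_inj := ?_
    H_mul := hHmul
    H_inj := ?_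
    HT := ?_
    w_sq := Subtype.ext n0_sq
    wH := ?_
    cases := ?_
    uniq := ?_
    syl := ?_ }
  · intro x
    rw [thetaHom_apply, thetaHom_apply, ← pow_mul]
    have e1 : 3 * 3 ^ m * (3 * 3 ^ m) = 3 ^ m * (3 * 3 ^ m) * 3 := by ring
    rw [e1, pow_mul, pow_mul, hF]
  · intro a b c a' b' c'
    apply Subtype.ext
    show wGL chevG2 hG2 (reeWordU (3 ^ m) a b c) * wGL chevG2 hG2 (reeWordU (3 ^ m) a' b' c') =
      wGL chevG2 hG2 (reeWordU (3 ^ m) _ _ _)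
    rw [reeU_mul hF hadd hsub, thetaHom_apply]
    exact wU_congr rfl rfl (by ring)
  · intro a b c a' b' c' h
    exact wU_inj _ _ _ _ _ _ _ (congrArg Subtype.val h)
  · intro s h
    have h1 : dEnt chevG2 (HR m hK s : GL chevG2.Idx K) 7 = 1 := by
      rw [h]
      exact dEnt_one
    rw [hHent s] at h1
    apply Units.ext
    rw [Units.val_one, ← hF (s : K), h1, one_pow]
  · intro s a b c
    apply Subtype.ext
    obtain ⟨d, hd, hx, h6⟩ := H1_char hσ hF hadd hodd _ (hHdiag s) (HR m hK s).2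
    have h7 : d 7 = (s : K) ^ 3 ^ m := by
      rw [← hHent s, dEnt_torus chevG2 _ d hx 7 g2_lt.2.1]
    have h6' : d 6 = s := by rw [h6, h7, hF]
    have key := reeU_conj_torus (HR m hK s : GL chevG2.Idx K) d hd hx h6 hF a b c
    have p : ((s : K) ^ 3 ^ m) ^ 3 = (s : K) ^ (3 * 3 ^ m) := by rw [← pow_mul, mul_comm]
    rw [h6', h7, p] at key
    show (HR m hK s : GL chevG2.Idx K) * wGL chevG2 hG2 (reeWordU (3 ^ m) a b c) =
      wGL chevG2 hG2 (reeWordU (3 ^ m) _ _ _) * (HR m hK s : GL chevG2.Idx K)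
    rw [key, thetaHom_apply]
  · intro s
    apply Subtype.ext
    show n0 K * (HR m hK s : GL chevG2.Idx K) * n0 K = (HR m hK s⁻¹ : GL chevG2.Idx K)
    obtain ⟨k1, k2, k3⟩ := n0_H1 hσ hF hadd hsub hodd _ (hHdiag s) (HR m hK s).2
    apply H1_inj hσ hF hadd hodd _ _ k1 k2 (hHdiag s⁻¹) (HR m hK s⁻¹).2
    rw [k3, hHent, hHent, Units.val_inv_eq_inv_val, inv_pow]
  · intro g
    rcases decomp_GL hσ hF hadd hsub hodd (g⁻¹ : ↥(twistedG2 K (3 ^ m))).1 (g⁻¹).2 with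
      hB | ⟨b, hb, u, hu, e⟩
    · left
      have hB' : (g : GL chevG2.Idx K) ∈ chevG2.borelSubgroup K ⊓ twistedG2 K (3 ^ m) := by
        have h1 := Subgroup.inv_mem _ hB
        have h2 : ((g⁻¹ : ↥(twistedG2 K (3 ^ m))).1)⁻¹ = (g : GL chevG2.Idx K) := by
          show ((g : GL chevG2.Idx K)⁻¹)⁻¹ = g
          rw [inv_inv]
        rwa [h2] at h1
      obtain ⟨a, b', c, s, e⟩ := hBd _ hB'
      exact ⟨a, b', c, s, Subtype.ext e⟩
    · right
      have e' : (g : GL chevG2.Idx K) = u⁻¹ * n0 K * b⁻¹ :=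
        inv_decomp (g : GL chevG2.Idx K) b (n0 K) u n0_inv e
      obtain ⟨t, u', v, hu'⟩ := U1_wU hσ hF hadd hsub hodd u⁻¹ (Subgroup.inv_mem _ hu)
      obtain ⟨a, b', c, s, hb'⟩ := hBd b⁻¹ (Subgroup.inv_mem _ hb)
      refine ⟨t, u', v, a, b', c, s, Subtype.ext ?_⟩
      rw [e', hu', hb']
      rfl
  · intro a b c a' b' c' s e
    have e1 : wGL chevG2 hG2 (reeWordU (3 ^ m) a b c) * n0 K *
        (wGL chevG2 hG2 (reeWordU (3 ^ m) a' b' c') * (HR m hK s : GL chevG2.Idx K)) = n0 K :=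
      congrArg Subtype.val e
    have hB : wGL chevG2 hG2 (reeWordU (3 ^ m) a' b' c') * (HR m hK s : GL chevG2.Idx K) ∈
        chevG2.borelSubgroup K :=
      Subgroup.mul_mem _
        ((le_sup_left : chevG2.posUnipotent K ≤ chevG2.borelSubgroup K) (wU_mem_pos _ _ _ _))
        ((le_sup_right : chevG2.diagonalSubgroup K ≤ chevG2.borelSubgroup K) (hHdiag s))
    have e2 := inv_cell _ _ _ n0_inv e1
    obtain ⟨-, h2⟩ := cell_GL hσ hF hadd hsub hodd _ 1 _ 1 (Subgroup.inv_mem _ hB)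
      (Subgroup.one_mem _) (Subgroup.inv_mem _ (wU_mem_pos _ _ _ _)) (Subgroup.one_mem _) e2
    have h3 : wGL chevG2 hG2 (reeWordU (3 ^ m) a b c) =
        wGL chevG2 hG2 (reeWordU (3 ^ m) 0 0 0) := by
      have hz := R_zero hF hadd hsub
      unfold R at hz
      rw [hz]
      exact inv_eq_one.1 h2
    exact wU_inj _ _ _ _ _ _ _ h3
  · refine ⟨Sylow.ofCard (QR K m) (card_QR hK), fun g => ?_⟩
    show (g : GL chevG2.Idx K) ∈ chevG2.posUnipotent K ⊓ twistedG2 K (3 ^ m) ↔ _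
    constructor
    · intro hg
      obtain ⟨t, u, v, h⟩ := U1_wU hσ hF hadd hsub hodd _ hg
      exact ⟨t, u, v, Subtype.ext h⟩
    · rintro ⟨a, b, c, rfl⟩
      exact ⟨wU_mem_pos _ a b c, reeU_mem _ a b c⟩


/-! ### the homomorphism -/

theorem commute_closure {G : Type*} [Group G] (A B : Set G)
    (h : ∀ a ∈ A, ∀ b ∈ B, Commute a b) :
    ∀ x ∈ Subgroup.closure A, ∀ y ∈ Subgroup.closure B, Commute x y := by
  intro x hx y hy
  induction hx using Subgroup.closure_induction with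
  | mem a ha =>
    induction hy using Subgroup.closure_induction with
    | mem b hb => exact h a ha b hb
    | one => exact Commute.one_right _
    | mul _ _ _ _ h1 h2 => exact h1.mul_right h2
    | inv _ _ h1 => exact h1.inv_right
  | one => exact Commute.one_left _
  | mul _ _ _ _ h1 h2 => exact h1.mul_left h2
  | inv _ _ h1 => exact h1.inv_left

theorem sup_rootSubgroup_eq (r s : ℕ) :
    chevG2.rootSubgroup K r ⊔ chevG2.rootSubgroup K s =
      Subgroup.closure ({g : GL chevG2.Idx K | ∃ t : K, g = xGL chevG2 hG2 r t} ∪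
        {g : GL chevG2.Idx K | ∃ t : K, g = xGL chevG2 hG2 s t}) := by
  rw [Subgroup.closure_union]
  have e : ∀ r' : ℕ, chevG2.rootSubgroup K r' =
      Subgroup.closure {g : GL chevG2.Idx K | ∃ t : K, g = xGL chevG2 hG2 r' t} := by
    intro r'
    unfold ChevalleyDatum.rootSubgroup
    congr 1
    ext g
    constructor
    · rintro ⟨t, ht⟩
      exact ⟨t, Units.ext (by rw [ht, xGL_val])⟩
    · rintro ⟨t, rfl⟩
      exact ⟨t, xGL_val _ _ _ _⟩
  rw [e r, e s]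

theorem map_up (f : K →+* K) (b : K) :
    ((Matrix.SpecialLinearGroup.map f (up b) : Matrix.SpecialLinearGroup (Fin 2) K) :
      Matrix (Fin 2) (Fin 2) K) = !![1, f b; 0, 1] := by
  rw [Matrix.SpecialLinearGroup.map_apply_coe]
  ext i j
  fin_cases i <;> fin_cases j <;> simp [up]

theorem map_lo (f : K →+* K) (b : K) :
    ((Matrix.SpecialLinearGroup.map f (lo b) : Matrix.SpecialLinearGroup (Fin 2) K) :
      Matrix (Fin 2) (Fin 2) K) = !![1, 0; f b, 1] := by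
  rw [Matrix.SpecialLinearGroup.map_apply_coe]
  ext i j
  fin_cases i <;> fin_cases j <;> simp [lo]

/-- the homomorphism `SL₂(K) → ²G₂(K)` onto the group generated by the middle root elements;
`hind` is the induction principle of `SL₂` (piece RC-SL2GEN) -/
theorem exists_sl2_ree [CharP K 3] (m : ℕ)
    (hind : ∀ P : Matrix.SpecialLinearGroup (Fin 2) K → Prop,
      (∀ x y, P x → P y → P (x * y)) → (∀ b : K, P (up b)) → (∀ b : K, P (lo b)) → ∀ g, P g) :
    ∃ φ : Matrix.SpecialLinearGroup (Fin 2) K →* ↥(twistedG2 K (3 ^ m)),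
      (∀ b : K, φ (up b) = TR K m 0 b 0) ∧
      (∀ b : K, φ (lo b) = wR K m * TR K m 0 (-b) 0 * wR K m) := by
  classical
  have he : 3 ^ m ≠ 0 := pow_ne_zero m (by norm_num)
  have hodd : Odd (3 ^ m) := Odd.pow (by decide)
  obtain ⟨φ8, hr8, h8⟩ := exists_sl2_hom (F := K) chevG2 hG2 8 g2_lt.2.2.1
  obtain ⟨φ10, hr10, h10⟩ := exists_sl2_hom (F := K) chevG2 hG2 10 g2_lt.2.2.2.2.1
  rw [g2_neg.2.2.1] at hr8 h8
  rw [g2_neg.2.2.2.2.1] at hr10 h10
  let fr : K →+* K := iterateFrobenius K 3 m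
  have hfr : ∀ x : K, fr x = x ^ 3 ^ m := fun x => iterateFrobenius_def 3 m x
  let ψ8 : Matrix.SpecialLinearGroup (Fin 2) K →* GL chevG2.Idx K :=
    φ8.comp (Matrix.SpecialLinearGroup.map fr)
  have hcomm : ∀ x y : Matrix.SpecialLinearGroup (Fin 2) K, Commute (ψ8 x) (φ10 y) := by
    intro x y
    have hx : ψ8 x ∈ φ8.range := ⟨_, rfl⟩
    have hy : φ10 y ∈ φ10.range := ⟨_, rfl⟩
    rw [hr8, sup_rootSubgroup_eq] at hx
    rw [hr10, sup_rootSubgroup_eq] at hy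
    refine commute_closure _ _ ?_ _ hx _ hy
    rintro a (⟨t, rfl⟩ | ⟨t, rfl⟩) b (⟨u, rfl⟩ | ⟨u, rfl⟩)
    · exact (ReeH.cX_10_8 u t).symm
    · exact (ReeH.cX_1_8 u t).symm
    · exact (ReeH.cX_10_3 u t).symm
    · exact (ReeH.cX_1_3 u t).symm
  let Φ : Matrix.SpecialLinearGroup (Fin 2) K →* GL chevG2.Idx K :=
    MonoidHom.mk' (fun g => ψ8 g * φ10 g) (by
      intro a b
      show ψ8 (a * b) * φ10 (a * b) = ψ8 a * φ10 a * (ψ8 b * φ10 b)
      rw [map_mul, map_mul]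
      have := (hcomm b a).eq
      calc ψ8 a * ψ8 b * (φ10 a * φ10 b) = ψ8 a * (ψ8 b * φ10 a) * φ10 b := by group
        _ = ψ8 a * (φ10 a * ψ8 b) * φ10 b := by rw [this]
        _ = ψ8 a * φ10 a * (ψ8 b * φ10 b) := by group)
  have hΦ : ∀ g, Φ g = ψ8 g * φ10 g := fun g => rfl
  have hup : ∀ b : K, Φ (up b) = wGL chevG2 hG2 (reeWordU (3 ^ m) 0 b 0) := by
    intro b
    rw [hΦ, reeU_val]
    have e1 : ψ8 (up b) = xGL chevG2 hG2 8 (b ^ 3 ^ m) := by
      apply Units.ext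
      rw [xGL_val, ← hfr]
      exact (h8 _ _).1 (map_up fr b)
    have e2 : φ10 (up b) = xGL chevG2 hG2 10 b := by
      apply Units.ext
      rw [xGL_val]
      exact (h10 _ _).1 rfl
    rw [e1, e2]
    simp only [zero_pow he, zero_pow (Nat.succ_ne_zero _), zero_add, xGL_zero, one_mul,
      mul_one]
  have hlo : ∀ b : K, Φ (lo b) =
      n0 K * wGL chevG2 hG2 (reeWordU (3 ^ m) 0 (-b) 0) * n0 K := by
    intro b
    rw [hΦ, reeU_val]
    have e1 : ψ8 (lo b) = xGL chevG2 hG2 3 (b ^ 3 ^ m) := by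
      apply Units.ext
      rw [xGL_val, ← hfr]
      exact (h8 _ _).2 (map_lo fr b)
    have e2 : φ10 (lo b) = xGL chevG2 hG2 1 b := by
      apply Units.ext
      rw [xGL_val]
      exact (h10 _ _).2 rfl
    rw [e1, e2]
    simp only [zero_pow he, zero_pow (Nat.succ_ne_zero _), zero_add, xGL_zero, one_mul,
      mul_one]
    have c8 := n0_conj_all (K := K) 8 (by norm_num) ((-b) ^ 3 ^ m)
    have c10 := n0_conj_all (K := K) 10 (by norm_num) (-b)
    rw [g2_neg.2.2.1] at c8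
    rw [g2_neg.2.2.2.2.1] at c10
    have e3 : -((-b) ^ 3 ^ m) = b ^ 3 ^ m := by rw [hodd.neg_pow, neg_neg]
    rw [e3] at c8
    rw [neg_neg] at c10
    calc xGL chevG2 hG2 3 (b ^ 3 ^ m) * xGL chevG2 hG2 1 b
        = xGL chevG2 hG2 3 (b ^ 3 ^ m) * xGL chevG2 hG2 1 b * (n0 K * n0 K) := by
          rw [n0_sq, mul_one]
      _ = xGL chevG2 hG2 3 (b ^ 3 ^ m) * (xGL chevG2 hG2 1 b * n0 K) * n0 K := by group
      _ = xGL chevG2 hG2 3 (b ^ 3 ^ m) * (n0 K * xGL chevG2 hG2 10 (-b)) * n0 K := by rw [c10]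
      _ = (xGL chevG2 hG2 3 (b ^ 3 ^ m) * n0 K) * xGL chevG2 hG2 10 (-b) * n0 K := by group
      _ = (n0 K * xGL chevG2 hG2 8 ((-b) ^ 3 ^ m)) * xGL chevG2 hG2 10 (-b) * n0 K := by rw [c8]
      _ = n0 K * (xGL chevG2 hG2 8 ((-b) ^ 3 ^ m) * xGL chevG2 hG2 10 (-b)) * n0 K := by group
  have hn0 : n0 K ∈ twistedG2 K (3 ^ m) := n0_mem (3 ^ m) he
  have hmem : ∀ g, Φ g ∈ twistedG2 K (3 ^ m) := by
    refine hind _ ?_ ?_ ?_
    · intro x y hx hy
      rw [map_mul]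
      exact Subgroup.mul_mem _ hx hy
    · intro b
      rw [hup]
      exact reeU_mem _ _ _ _
    · intro b
      rw [hlo]
      exact Subgroup.mul_mem _ (Subgroup.mul_mem _ hn0 (reeU_mem _ _ _ _)) hn0
  refine ⟨Φ.codRestrict (twistedG2 K (3 ^ m)) hmem, ?_, ?_⟩
  · intro b
    apply Subtype.ext
    exact hup b
  · intro b
    apply Subtype.ext
    exact hlo b

end Cfsg.Agent.Lib.Helper48.RC
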