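import Mathlib
import Cfsg.Agent.Lib.Helper48.RCBase
import Cfsg.Agent.Lib.Helper25.RCSL2GEN
import Cfsg.Agent.Lib.Helper25.RCSL2INV
import Cfsg.Agent.Lib.Helper25.RCSL2CARD
import Cfsg.Agent.Lib.Helper94.RCSL2NOR
import Cfsg.Agent.Lib.Helper65.RCSL2CEN
import Cfsg.Agent.Lib.Helper65.RCSL2Z
import Cfsg.Agent.Lib.Helper38.RCISO
import Cfsg.Agent.Lib.Helper78.RCCJMEM
import Cfsg.Agent.Lib.Helper84.RCCJCARD
import Cfsg.Agent.Lib.Helper69.RCKERB
import Cfsg.Agent.Lib.Helper61.RCKERNE

/-!
# Project RC (helper48, S1152 / S1157): the centraliser of the torus involution, abstract form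

In the rank-one setting `Ok0` with a homomorphism `φ : SL₂(F) → G` onto the subgroup generated by
the middle root elements `T 0 b 0` and their `w`-conjugates: `C_G(H (-1)) ≅ Z₂ × PSL₂(F)`.
-/

set_option autoImplicit false

namespace Cfsg.Agent.Lib.Helper48.RC

/-! ## Assembly (helper48) -/

section main

variable {F : Type*} [Field F] [Finite F] [CharP F 3] {G : Type*} [Group G] [Finite G]
variable {θ : F →+* F} {T : F → F → F → G} {H : Fˣ → G} {w : G}

theorem two_ne_zero_char3 : (2 : F) ≠ 0 := by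
  intro h2
  have h3 : (3 : F) = 0 := three_eq_zero
  have : (1 : F) = 0 := by linear_combination h3 - h2
  exact one_ne_zero this

theorem neg_one_ne_one_units : (-1 : Fˣ) ≠ 1 := by
  intro e
  have e1 : ((-1 : Fˣ) : F) = ((1 : Fˣ) : F) := by rw [e]
  rw [Units.val_neg, Units.val_one] at e1
  apply two_ne_zero_char3 (F := F)
  linear_combination -e1

theorem J_ne_one (h : Ok0 θ T H w) : H (-1) ≠ 1 := fun e => neg_one_ne_one_units (h.H_inj _ e)

theorem J_sq (h : Ok0 θ T H w) : H (-1) * H (-1) = 1 := by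
  rw [← h.H_mul]
  have : (-1 : Fˣ) * (-1) = 1 := by simp
  rw [this, h.H_one]

/-- the centraliser of the involution `J = H (-1)` is `Z₂ × PSL₂(F)`, of order `q(q-1)(q+1)` -/
theorem centralizer_iso (h : Ok0 θ T H w) (φ : Matrix.SpecialLinearGroup (Fin 2) F →* G)
    (hup : ∀ b : F, φ (up b) = T 0 b 0) (hlo : ∀ b : F, φ (lo b) = w * T 0 (-b) 0 * w) :
    Nonempty (Subgroup.centralizer {H (-1)} ≃*
      Multiplicative (ZMod 2) × Matrix.ProjectiveSpecialLinearGroup (Fin 2) F) ∧
    Nat.card (Subgroup.centralizer {H (-1)}) =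
      Nat.card F * (Nat.card F - 1) * (Nat.card F + 1) := by
  have hmem := centralizer_mem h
  have hcard := centralizer_card h hmem
  have hT : ∀ b, T 0 b 0 ∈ Subgroup.centralizer {H (-1)} := fun b =>
    (hmem _).2 (Or.inl ⟨b, 1, by rw [h.H_one, mul_one]⟩)
  have hw : w ∈ Subgroup.centralizer {H (-1)} :=
    (hmem _).2 (Or.inr ⟨0, 0, 1, by rw [h.T_zero, h.H_one]; group⟩)
  have hrange : ∀ g, φ g ∈ Subgroup.centralizer {H (-1)} := by
    refine sl2_induction _ ?_ ?_ ?_
    · intro x y hx hy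
      rw [map_mul]
      exact Subgroup.mul_mem _ hx hy
    · intro b
      rw [hup]
      exact hT b
    · intro b
      rw [hlo]
      exact Subgroup.mul_mem _ (Subgroup.mul_mem _ hw (hT _)) hw
  have h2 : (2 : F) ≠ 0 := two_ne_zero_char3
  have hSL := sl2_card (F := F)
  have hninj := not_injective h φ hrange hcard hSL (fun g g' => sl2_involution_unique h2 g g')
  have hker_le : φ.ker ≤ Subgroup.center _ :=
    sl2_normal_le_center φ.ker (fun g hg => ker_entry h φ hup hlo g hg)
  have hker_ne : φ.ker ≠ ⊥ := fun hb => hninj ((MonoidHom.ker_eq_bot_iff φ).1 hb)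
  have hc2 := sl2_center_card_le (F := F)
  have hk1 : 1 < Nat.card φ.ker := by
    rcases Nat.lt_or_ge 1 (Nat.card φ.ker) with h1 | h1
    · exact h1
    · exact absurd ((Subgroup.card_le_one_iff_eq_bot _).1 h1) hker_ne
  have hle : Nat.card φ.ker ≤ Nat.card (Subgroup.center (Matrix.SpecialLinearGroup (Fin 2) F)) :=
    Subgroup.card_le_of_le hker_le
  have hker : φ.ker = Subgroup.center _ :=
    Subgroup.eq_of_le_of_card_ge hker_le (by omega)
  have hkcard : Nat.card φ.ker = 2 := by omega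
  have hJ1 : H (-1) ≠ 1 := J_ne_one h
  have hJ2 : H (-1) * H (-1) = 1 := J_sq h
  have hc : ∀ s, φ s * H (-1) = H (-1) * φ s := fun s =>
    (Subgroup.mem_centralizer_singleton_iff.1 (hrange s))
  have hJ : H (-1) ∉ φ.range := by
    rintro ⟨g, hg⟩
    have hgc : g ∈ Subgroup.center (Matrix.SpecialLinearGroup (Fin 2) F) := by
      apply sl2_center_of_comm h2
      intro x
      rw [← hker]
      show φ (g * x * g⁻¹ * x⁻¹) = 1
      rw [map_mul, map_mul, map_mul, map_inv, map_inv, hg, ← hc x]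
      group
    rw [← hker] at hgc
    exact hJ1 (hg ▸ hgc)
  have hcard2 : Nat.card (Subgroup.centralizer {H (-1)}) = 2 * Nat.card φ.range := by
    have e1 : Nat.card (Matrix.SpecialLinearGroup (Fin 2) F ⧸ φ.ker) = Nat.card φ.range :=
      Nat.card_congr (QuotientGroup.quotientKerEquivRange φ).toEquiv
    have e2 := Subgroup.card_eq_card_quotient_mul_card_subgroup φ.ker
    rw [hcard, ← hSL, e2, e1, hkcard]
    ring
  obtain ⟨e⟩ := iso_prod φ (H (-1)) hJ1 hJ2 hc hJ hcard2
  exact ⟨⟨e.trans (MulEquiv.prodCongr (MulEquiv.refl _)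
    (QuotientGroup.quotientMulEquivOfEq hker))⟩, hcard⟩

end main

end Cfsg.Agent.Lib.Helper48.RC
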