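import Mathlib
import Cfsg.Agent.Lib.Helper48.RCMain
import Cfsg.Agent.Lib.Helper48.RCInst
import Cfsg.Agent.Lib.Helper60.RCSYL
import Cfsg.Agent.Lib.Lead.RCNUM2
import Cfsg.Agent.S0276
import Cfsg.Agent.S1069

/-!
# Project RC (helper48, S1152): the centraliser of an involution of the small Ree groups
-/

set_option autoImplicit false

namespace Cfsg.Agent.Lib.Helper48.RC

/-! ## The small Ree groups (helper48) -/

section ree

open Cfsg.Lie Matrix
open Cfsg.Agent.Lib.Helper24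
open Cfsg.Agent.Lib.Helper27 Cfsg.Agent.Lib.Helper27.Ree
open Cfsg.Agent.Lib.Helper48.RG

theorem three_pow_mod_eight (m : ℕ) : 3 ^ (2 * m + 1) % 8 = 3 := by
  induction m with
  | zero => norm_num
  | succ n ih =>
    have e : 3 ^ (2 * (n + 1) + 1) = 9 * 3 ^ (2 * n + 1) := by ring
    rw [e]
    omega

theorem eight_dvd_of_mod (q : ℕ) (hq : q % 8 = 3) : 8 ∣ q * (q - 1) * (q + 1) := by
  obtain ⟨j, rfl⟩ : ∃ j, q = 8 * j + 3 := ⟨q / 8, by omega⟩
  have e : 8 * j + 3 - 1 = 2 * (4 * j + 1) := by omega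
  rw [e]
  exact ⟨(8 * j + 3) * (4 * j + 1) * (2 * j + 1), by ring⟩

/-- the torus involution of `²G₂(q)` -/
theorem torus_involution {K : Type*} [Field K] [Fintype K] [CharP K 3] {m : ℕ}
    (hK : Fintype.card K = 3 ^ (2 * m + 1))
    (a : ↥(twistedG2 K (3 ^ m))) (haH : (a : GL chevG2.Idx K) ∈ chevG2.diagonalSubgroup K)
    (ha1 : a ≠ 1) (ha2 : a * a = 1) : a = HR m hK (-1) := by
  have hok := ok0 hK
  obtain ⟨-, -, -, hsurj⟩ := HR_spec m hK
  obtain ⟨s, hs⟩ := hsurj (a : GL chevG2.Idx K) ⟨haH, a.2⟩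
  have has : a = HR m hK s := Subtype.ext hs
  have hs2 : s * s = 1 := hok.H_inj _ (by rw [hok.H_mul, ← has, ha2])
  have hs1 : s ≠ 1 := by
    rintro rfl
    exact ha1 (has.trans hok.H_one)
  have hsm : s = -1 := by
    have e0 : (s : K) * s = 1 := by
      have := congrArg Units.val hs2
      rwa [Units.val_mul, Units.val_one] at this
    have e : ((s : K) - 1) * ((s : K) + 1) = 0 := by linear_combination e0
    rcases mul_eq_zero.1 e with e1 | e1
    · exact absurd (Units.ext (by rw [Units.val_one]; linear_combination e1)) hs1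
    · exact Units.ext (by rw [Units.val_neg, Units.val_one]; linear_combination e1)
  rw [has, hsm]

/-- S1152 -/
theorem ree_involution_centralizer {K : Type*} [Field K] [Fintype K] {m : ℕ}
    (hK : Fintype.card K = 3 ^ (2 * m + 1))
    (a : ↥(twistedG2 K (3 ^ m))) (haH : (a : GL chevG2.Idx K) ∈ chevG2.diagonalSubgroup K)
    (ha1 : a ≠ 1) (ha2 : a * a = 1) :
    Nonempty (↥(Subgroup.centralizer {a}) ≃*
        Multiplicative (ZMod 2) × Matrix.ProjectiveSpecialLinearGroup (Fin 2) K) ∧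
      ∀ S : Sylow 2 ↥(twistedG2 K (3 ^ m)), Nat.card S = 8 ∧ ∀ x ∈ S, x * x = 1 := by
  have : CharP K 3 := charP_three (by omega) hK
  have hok := ok0 hK
  obtain ⟨φ, hup, hlo⟩ := exists_sl2_ree (K := K) m
    (fun P h1 h2 h3 g => sl2_induction P h1 h2 h3 g)
  have haJ := torus_involution hK a haH ha1 ha2
  subst haJ
  obtain ⟨⟨e⟩, hcard⟩ := centralizer_iso hok φ hup hlo
  refine ⟨⟨e⟩, ?_⟩
  have hq8 : Fintype.card K % 8 = 3 := by
    rw [hK]
    exact three_pow_mod_eight m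
  have hP : ∀ Q : Sylow 2 (Matrix.ProjectiveSpecialLinearGroup (Fin 2) K),
      IsKleinFour (Q : Subgroup (Matrix.ProjectiveSpecialLinearGroup (Fin 2) K)) := fun Q =>
    Cfsg.Agent.S0276.result rfl (Or.inl hq8) Q
  have hG : (Nat.card ↥(twistedG2 K (3 ^ m))).factorization 2 = 3 := by
    rw [Cfsg.Agent.S1069.result hK]
    exact fact2 m
  have hC : 8 ∣ Nat.card (Subgroup.centralizer {HR m hK (-1)}) := by
    rw [hcard, Nat.card_eq_fintype_card]
    exact eight_dvd_of_mod _ hq8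
  exact sylow_two_of_centralizer _ e hP hG hC

end ree

end Cfsg.Agent.Lib.Helper48.RC
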