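import Mathlib
import Cfsg.Agent.Lib.Helper48.RCFinal
import Cfsg.Agent.Lib.Helper88.RCBCARD
import Cfsg.Agent.Lib.Helper85.RCNC24
import Cfsg.Agent.Lib.Helper38.RCN24G
import Cfsg.Agent.Lib.Helper84.RCAUT168
import Cfsg.Agent.Lib.Helper35.RCN168
import Cfsg.Agent.Lib.Helper93.RCCONJ
import Cfsg.Agent.Lib.Helper93.RCCSS
import Cfsg.Agent.Lib.Helper79.RCPSLN
import Cfsg.Agent.Lib.Helper30.RCZS
import Cfsg.Agent.Lib.Helper24.RkSigF

/-!
# Project RC (helper48, S1157): the Sylow 2-subgroups of the small Ree groups are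
self-centralising with normaliser of order 168
-/

set_option autoImplicit false

namespace Cfsg.Agent.Lib.Helper48.RC

/-! ## The Sylow 2-subgroups of the small Ree groups (helper48) -/

section ree2

open Cfsg.Lie Matrix
open Cfsg.Agent.Lib.Helper24
open Cfsg.Agent.Lib.Helper27 Cfsg.Agent.Lib.Helper27.Ree
open Cfsg.Agent.Lib.Helper48.RG

/-- S1157 -/
theorem ree_sylow_two {K : Type*} [Field K] [Fintype K] {m : ℕ} (hm : 1 ≤ m)
    (hK : Fintype.card K = 3 ^ (2 * m + 1)) (S : Sylow 2 ↥(twistedG2 K (3 ^ m))) :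
    Subgroup.centralizer ((S : Subgroup ↥(twistedG2 K (3 ^ m))) : Set ↥(twistedG2 K (3 ^ m))) = S ∧
      Nat.card (Subgroup.normalizer
        ((S : Subgroup ↥(twistedG2 K (3 ^ m))) : Set ↥(twistedG2 K (3 ^ m)))) = 168 := by
  have : CharP K 3 := charP_three (by omega) hK
  have hok := ok0 hK
  have hJ1 : HR m hK (-1) ≠ 1 := J_ne_one hok
  have hJ2 : HR m hK (-1) * HR m hK (-1) = 1 := J_sq hok
  have hJdiag : (HR m hK (-1) : GL chevG2.Idx K) ∈ chevG2.diagonalSubgroup K :=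
    (HR_spec m hK).2.1 (-1)
  obtain ⟨⟨e⟩, hsyl⟩ := ree_involution_centralizer hK (HR m hK (-1)) hJdiag hJ1 hJ2
  have hJord : orderOf (HR m hK (-1)) = 2 :=
    orderOf_eq_prime (by rw [pow_two]; exact hJ2) hJ1
  have hJp : IsPGroup 2 (Subgroup.zpowers (HR m hK (-1))) := by
    have hc : Nat.card (Subgroup.zpowers (HR m hK (-1))) = 2 := by
      rw [Nat.card_zpowers, hJord]
    exact IsPGroup.of_card (n := 1) (by rw [hc]; norm_num)
  obtain ⟨S₀, hS₀⟩ := hJp.exists_le_sylow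
  have hJS : HR m hK (-1) ∈ S₀ := hS₀ (Subgroup.mem_zpowers _)
  obtain ⟨hS8, hexp⟩ := hsyl S₀
  have hab : ∀ x ∈ S₀, ∀ y ∈ S₀, x * y = y * x := by
    intro x hx y hy
    have h1 := hexp x hx
    have h2 := hexp y hy
    have h3 := hexp (x * y) (S₀.mul_mem hx hy)
    calc x * y = (x * y)⁻¹ := (inv_eq_of_mul_eq_one_left h3).symm
      _ = y⁻¹ * x⁻¹ := mul_inv_rev x y
      _ = y * x := by rw [inv_eq_of_mul_eq_one_left h2, inv_eq_of_mul_eq_one_left h1]
  have hq8 : Fintype.card K % 8 = 3 := by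
    rw [hK]
    exact three_pow_mod_eight m
  have hq8' : Nat.card K % 8 = 3 := by
    rw [Nat.card_eq_fintype_card]
    exact hq8
  have hP : ∀ Q : Sylow 2 (Matrix.ProjectiveSpecialLinearGroup (Fin 2) K),
      IsKleinFour (Q : Subgroup (Matrix.ProjectiveSpecialLinearGroup (Fin 2) K)) := fun Q =>
    Cfsg.Agent.S0276.result rfl (Or.inl hq8) Q
  have hN : ∀ V : Subgroup (Matrix.ProjectiveSpecialLinearGroup (Fin 2) K), IsKleinFour V →
      Nat.card (Subgroup.normalizer (V : Set (Matrix.ProjectiveSpecialLinearGroup (Fin 2) K))) =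
        12 := fun V hV => psl2_normalizer_klein hq8 V hV
  have h24 := normalizer_inter_card (HR m hK (-1))
    (fun S' => normalizer_in_prod e hP hN S') S₀ hJS hab
  have hB := borel_card hok
  have hCS := centralizer_sylow hok hq8' hB S₀ hJS hab hS8 h24
  have hsimple := (ReeP.twistedG2_simple hm hK).1
  have hnc : ∃ x : ↥(twistedG2 K (3 ^ m)), x * HR m hK (-1) ≠ HR m hK (-1) * x := by
    refine ⟨TR K m 1 0 0, ?_⟩
    intro e1
    have e2 := hok.HT (-1) 1 0 0
    rw [← e1] at e2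
    have e3 := mul_right_cancel e2
    have e4 := (hok.T_inj _ _ _ _ _ _ e3).1
    rw [Units.val_neg, Units.val_one] at e4
    apply two_ne_zero_char3 (F := K)
    linear_combination e4
  have hfus := exists_fusion hsimple S₀ (HR m hK (-1)) hJord hJS hnc
  have haut := card_mulAut_dvd (E := ↥(S₀ : Subgroup ↥(twistedG2 K (3 ^ m)))) hS8
    (fun x => Subtype.ext (hexp x.1 x.2))
  have hN168 := normalizer_card_168 S₀ (HR m hK (-1)) hJS hS8 hCS h24 hfus haut
  exact all_sylow_of_one S₀ hCS hN168 S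

end ree2

end Cfsg.Agent.Lib.Helper48.RC
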