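import Mathlib
import Cfsg.Agent.Lib.Helper65.RegUnipC

/-!
# Foundation for S2279 (two regular unipotent generators of `SL_n(F)`)

Notation (0-based, `E k := bv k`): `J = Um n F = 1 + Nm n F` (`J E_{k+1} = E_{k+1} + E_k`).
The matrix `sM n a` is the identity except for
* row 1 = `(2, -1, -1, 0, …)`, row 2 = `(0, 1, 0, 0, …)`, row `n-1` = `(a, -a, 0, …, 0, 1)`,
i.e. `sM n a = 1 + E_1 ψ₁ᵀ + E_2 ψ₂ᵀ + a E_{n-1} ψ₃ᵀ` with
`ψ₁ = 2E_0 - 2E_1 - E_2`, `ψ₂ = E_1 - E_2`, `ψ₃ = E_0 - E_1`.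
Facts (proved in the other `RU*` files): `sM n a ^ 3 = 1 + a E_{n-1} E_0ᵀ` and `sM n a * J` is
regular unipotent, conjugate to `J` by the explicit matrix `hM` (`n ≥ 5`) resp. `hM4` (`n = 4`).
-/

set_option autoImplicit false

namespace Cfsg.Agent.Lib.Helper48.RU

open Matrix Cfsg.Agent.Lib.Helper65.RegUnip

variable {F : Type*} [Field F] {n : ℕ}

/-- `ψ₁ = 2E_0 - 2E_1 - E_2`. -/
def psi1 : Fin n → F := (2 : F) • bv 0 - (2 : F) • bv 1 - bv 2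

/-- `ψ₂ = E_1 - E_2`. -/
def psi2 : Fin n → F := bv 1 - bv 2

/-- `ψ₃ = E_0 - E_1`. -/
def psi3 : Fin n → F := bv 0 - bv 1

/-- The matrix `s_a`. -/
def sM (n : ℕ) (a : F) : Matrix (Fin n) (Fin n) F :=
  1 + vecMulVec (bv 1) psi1 + vecMulVec (bv 2) psi2 + vecMulVec (a • bv (n - 1)) psi3

theorem vecMulVec_mulVec' (c ψ x : Fin n → F) : vecMulVec c ψ *ᵥ x = (ψ ⬝ᵥ x) • c := by
  rw [vecMulVec_mulVec, op_smul_eq_smul]

theorem vecMul_vecMulVec' (c ψ y : Fin n → F) : y ᵥ* vecMulVec c ψ = (y ⬝ᵥ c) • ψ := by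
  rw [vecMul_vecMulVec]

theorem sM_mulVec (a : F) (x : Fin n → F) :
    sM n a *ᵥ x = x + (psi1 ⬝ᵥ x) • bv 1 + (psi2 ⬝ᵥ x) • bv 2 +
      (a * (psi3 ⬝ᵥ x)) • bv (n - 1) := by
  unfold sM
  rw [add_mulVec, add_mulVec, add_mulVec, one_mulVec, vecMulVec_mulVec', vecMulVec_mulVec',
    vecMulVec_mulVec', smul_smul, mul_comm]

theorem vecMul_sM (a : F) (y : Fin n → F) :
    y ᵥ* sM n a = y + (y ⬝ᵥ bv 1) • psi1 + (y ⬝ᵥ bv 2) • psi2 +
      (a * (y ⬝ᵥ bv (n - 1))) • psi3 := by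
  unfold sM
  rw [vecMul_add, vecMul_add, vecMul_add, vecMul_one, vecMul_vecMulVec', vecMul_vecMulVec',
    vecMul_vecMulVec', dotProduct_smul, smul_eq_mul]

/-- Two matrices agreeing on all basis vectors are equal. -/
theorem ext_bv {A B : Matrix (Fin n) (Fin n) F}
    (h : ∀ j : ℕ, j < n → A *ᵥ (bv j : Fin n → F) = B *ᵥ bv j) : A = B := by
  ext i j
  have h1 := congrFun (h j j.2) i
  have e : ∀ M : Matrix (Fin n) (Fin n) F, (M *ᵥ (bv (j : ℕ) : Fin n → F)) i = M i j := by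
    intro M
    show M i ⬝ᵥ bv (j : ℕ) = M i j
    rw [dot_bv (j : ℕ) j.2]
  rwa [e, e] at h1

/-- The columns of the conjugator `hM` (size `m + 5`). -/
def hcol (m : ℕ) (a : F) (j : ℕ) : Fin (m + 5) → F :=
  if j = 0 then a • (bv 0 + bv 2)
  else if j = 1 then a • bv 1
  else if j = m + 2 then (-2 : F) • (bv 0 + bv 2) - a • bv (m + 3)
  else if j = m + 3 then (-2 : F) • bv 1 - a • bv (m + 4)
  else if j = m + 4 then bv 2
  else (-a) • bv (j + 1)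

/-- The conjugator: `hM m a * J = sM (m+5) a * J * hM m a`, `det (hM m a) = a ^ (m + 4)`. -/
def hM (m : ℕ) (a : F) : Matrix (Fin (m + 5)) (Fin (m + 5)) F :=
  Matrix.of fun i j => hcol m a (j : ℕ) i

theorem hM_mulVec_bv (m : ℕ) (a : F) (j : ℕ) (hj : j < m + 5) :
    hM m a *ᵥ (bv j : Fin (m + 5) → F) = hcol m a j := by
  funext i
  show hM m a i ⬝ᵥ bv j = hcol m a j i
  rw [dot_bv j hj]
  rfl

/-- The conjugator for `n = 4`. -/
def hM4 (a : F) : Matrix (Fin 4) (Fin 4) F :=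
  !![a, -2, 0, 0; 0, a, -2, 0; a, -2, 0, 1; 0, 0, -a, 0]

end Cfsg.Agent.Lib.Helper48.RU
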